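/-
Morphisms from a cofiltered limit of reduced schemes, with dominant projections, to a scheme locally
of finite type (no finite presentation needed) factor through a stage.  (Adapted from Mathlib's
`Scheme.exists_π_app_comp_eq_of_locallyOfFinitePresentation`.)
-/
import Mathlib.AlgebraicGeometry.AffineTransitionLimit
import Mathlib.AlgebraicGeometry.Morphisms.ClosedImmersion
import Mathlib.AlgebraicGeometry.Morphisms.UnderlyingMap

set_option autoImplicit false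

universe u

open CategoryTheory Limits AlgebraicGeometry AlgebraicGeometry.Scheme TopologicalSpace

namespace K342.LftDominant

variable {I : Type u} [Category.{u} I] {S X : Scheme.{u}} (D : I ⥤ Scheme.{u})
  (t : D ⟶ (Functor.const I).obj S) (f : X ⟶ S) (c : Cone D) (hc : IsLimit c)

/-- An affine morphism of finite type to an affine scheme is a closed immersion followed by a
morphism of finite presentation between affine schemes. -/
theorem exists_closedImmersion {X S : Scheme.{u}} (f : X ⟶ S) [IsAffine S] [IsAffine X]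
    [LocallyOfFiniteType f] :
    ∃ (P : Scheme.{u}) (j : X ⟶ P) (p : P ⟶ S), IsAffine P ∧ IsClosedImmersion j ∧
      LocallyOfFinitePresentation p ∧ j ≫ p = f := by
  wlog hS : ∃ R, S = Spec R generalizing S
  · obtain ⟨P, j, p, h1, h2, h3, h4⟩ := this (f ≫ S.isoSpec.hom) ⟨_, rfl⟩
    exact ⟨P, j, p ≫ S.isoSpec.inv, h1, h2, inferInstance, by simp [reassoc_of% h4]⟩
  obtain ⟨R, rfl⟩ := hS
  wlog hX : ∃ S, X = Spec S generalizing X
  · obtain ⟨P, j, p, h1, h2, h3, h4⟩ := this (X.isoSpec.inv ≫ f) ⟨_, rfl⟩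
    exact ⟨P, X.isoSpec.hom ≫ j, p, h1, inferInstance, h3, by simp [h4]⟩
  obtain ⟨B, rfl⟩ := hX
  obtain ⟨φ, rfl⟩ := Spec.map_surjective f
  have hφ : φ.hom.FiniteType := HasRingHomProperty.Spec_iff.mp ‹LocallyOfFiniteType (Spec.map φ)›
  let := φ.hom.toAlgebra
  have : Algebra.FiniteType R B := hφ
  obtain ⟨n, g, hg⟩ := Algebra.FiniteType.iff_quotient_mvPolynomial''.mp this
  refine ⟨Spec (.of (MvPolynomial (Fin n) R)), Spec.map (CommRingCat.ofHom g.toRingHom),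
    Spec.map (CommRingCat.ofHom (algebraMap R (MvPolynomial (Fin n) R))), inferInstance, ?_, ?_, ?_⟩
  · exact IsClosedImmersion.spec_of_surjective _ hg
  · rw [HasRingHomProperty.Spec_iff (P := @LocallyOfFinitePresentation)]
    exact RingHom.finitePresentation_algebraMap.mpr inferInstance
  · rw [← Spec.map_comp]
    congr 1
    ext x
    exact g.commutes x

set_option backward.isDefEq.respectTransparency false in
include hc in
theorem affine_case [IsCofiltered I] [LocallyOfFiniteType f]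
    [IsAffine S] [IsAffine X] [∀ i, IsAffine (D.obj i)] [∀ i, IsReduced (D.obj i)]
    [∀ i, IsDominant (c.π.app i)]
    (a : c.pt ⟶ X) (ha : c.π ≫ t = (Functor.const _).map (a ≫ f)) :
    ∃ (i : I) (g : D.obj i ⟶ X), c.π.app i ≫ g = a ∧ g ≫ f = t.app i := by
  obtain ⟨P, j, p, h1, h2, h3, h4⟩ := exists_closedImmersion f
  have : ∀ {i j} (f : i ⟶ j), IsAffineHom (D.map f) := fun f => inferInstance
  obtain ⟨i, g, hg, hg'⟩ := Scheme.exists_π_app_comp_eq_of_locallyOfFinitePresentation D t p c hc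
    (a ≫ j) (by rw [ha, Category.assoc, h4])
  have : IsDominant (pullback.fst g j) := by
    have : IsDominant (pullback.lift (c.π.app i) a hg ≫ pullback.fst g j) := by
      rw [pullback.lift_fst]; infer_instance
    exact IsDominant.of_comp (pullback.lift (c.π.app i) a hg) _
  have : Surjective (pullback.fst g j) :=
    surjective_of_isDominant_of_isClosed_range _ (Scheme.Hom.isClosedEmbedding _).isClosed_range
  have : IsIso (pullback.fst g j) := isIso_of_isClosedImmersion_of_surjective _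
  refine ⟨i, inv (pullback.fst g j) ≫ pullback.snd g j, ?_, ?_⟩
  · rw [← cancel_mono j, ← hg, Category.assoc, Category.assoc, ← pullback.condition,
      IsIso.inv_hom_id_assoc]
  · rw [Category.assoc, ← h4, ← pullback.condition_assoc, IsIso.inv_hom_id_assoc, hg']

set_option backward.isDefEq.respectTransparency false in
theorem isDominant_opensCone [∀ i, IsDominant (c.π.app i)] (i : I) (U : (D.obj i).Opens)
    (k : Over i) : IsDominant ((opensCone D c i U).π.app k) := by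
  have h : c.π.app i ⁻¹ᵁ U = c.π.app k.left ⁻¹ᵁ (D.map k.hom ⁻¹ᵁ U) := by
    rw [← Scheme.Hom.comp_preimage, c.w]
  have : (c.π.app k.left).resLE (D.map k.hom ⁻¹ᵁ U) (c.π.app i ⁻¹ᵁ U) h.le =
      (c.pt.isoOfEq h).hom ≫ (c.π.app k.left ∣_ (D.map k.hom ⁻¹ᵁ U)) := by
    rw [← cancel_mono (Scheme.Opens.ι _)]
    simp
  change IsDominant ((c.π.app k.left).resLE (D.map k.hom ⁻¹ᵁ U) (c.π.app i ⁻¹ᵁ U) h.le)
  rw [this]
  have : IsDominant (c.π.app k.left ∣_ (D.map k.hom ⁻¹ᵁ U)) :=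
    IsZariskiLocalAtTarget.restrict (P := @IsDominant) inferInstance _
  infer_instance

set_option backward.defeqAttrib.useBackward true in
set_option backward.isDefEq.respectTransparency false in
include hc in
/-- Given a cofiltered diagram of reduced qcqs schemes `Dᵢ` over `S` with affine transition maps and
dominant projections from the limit.  If `X` is locally of finite type over `S`, then any
`S`-morphism `lim Dᵢ ⟶ X` factors through some `lim Dᵢ ⟶ Dⱼ ⟶ X`. -/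
theorem exists_π_app_comp_eq
    [IsCofiltered I] [LocallyOfFiniteType f]
    [∀ {i j} (f : i ⟶ j), IsAffineHom (D.map f)]
    [∀ i, CompactSpace (D.obj i)] [∀ i, QuasiSeparatedSpace (D.obj i)]
    [∀ i, IsReduced (D.obj i)] [∀ i, IsDominant (c.π.app i)]
    (a : c.pt ⟶ X) (ha : c.π ≫ t = (Functor.const _).map (a ≫ f)) :
    ∃ (i : I) (g : D.obj i ⟶ X), c.π.app i ≫ g = a ∧ g ≫ f = t.app i := by
  have 𝒰 := (c.pt.isBasis_affineOpens).isOpenCover_mem_and_le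
    (((X.isBasis_affineOpens).isOpenCover_mem_and_le
    ((S.isBasis_affineOpens).isOpenCover.comap f.base.hom)).comap a.base.hom)
  obtain ⟨i, s, 𝒱, h𝒱, h𝒱𝒰⟩ := Scheme.exists_isOpenCover_and_isAffine D c hc _ 𝒰 fun U ↦ U.2.1
  obtain ⟨i', fi'i, hi'⟩ : ∃ (i' : I) (fi'i : i' ⟶ i),
      ∀ j, D.map fi'i ⁻¹ᵁ 𝒱 j ≤ t.app i' ⁻¹ᵁ j.1.1.2.1.2.1 := by
    choose k fk hk using fun j ↦ exists_map_preimage_le_map_preimage D c hc (h𝒱𝒰 j).1.isCompact
      (V := t.app i ⁻¹ᵁ j.1.1.2.1.2.1) (by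
      rw [← Hom.comp_preimage, ← NatTrans.comp_app, ha]
      exact (h𝒱𝒰 j).2.symm.trans_le (j.1.prop.2.trans (a.preimage_mono j.1.1.2.prop.2)))
    obtain ⟨i', fi'i, fi', hfi'⟩ := IsCofiltered.wideCospan fk
    refine ⟨i', fi'i, fun j ↦ ?_⟩
    rw [← hfi', Functor.map_comp, Hom.comp_preimage]
    refine (Hom.preimage_mono _ (hk _)).trans ?_
    simp only [← Hom.comp_preimage, t.naturality, Functor.const_obj_obj,
      Functor.const_obj_map, Category.comp_id, le_refl]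
  have : ∃ k, ∃ (fk : k ⟶ i), ∀ j, ∃ (ak : ↑(D.map fk ⁻¹ᵁ 𝒱 j) ⟶ X),
      ak ≫ f = Opens.ι _ ≫ t.app k ∧ c.π.app _ ∣_ _ ≫ ak = Opens.ι _ ≫ a := by
    let 𝒱' := (D.map fi'i ⁻¹ᵁ 𝒱 ·)
    have h𝒱'𝒰 (j : s) : c.π.app i' ⁻¹ᵁ 𝒱' j = j.1.1.1 := by
      rw [← Hom.comp_preimage, c.w fi'i]; exact (h𝒱𝒰 j).2.symm
    have _ (j k) : IsAffine ((opensDiagram D i' (𝒱' j)).obj k) := ((h𝒱𝒰 _).1.preimage _).preimage _
    let t𝒱 (j : _) : opensDiagram D i' (𝒱' j) ⟶ (Functor.const (Over i')).obj j.1.1.2.1.2 :=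
    { app k := (t.app k.left).resLE _ _ <| by
        refine (Hom.preimage_mono _ (hi' _)).trans ?_
        simp only [Functor.const_obj_obj, ← Hom.comp_preimage, t.naturality,
          Functor.const_obj_map, Category.comp_id, le_refl]
      naturality {k₁ k₂} f₁₂ := by simp [Hom.resLE_comp_resLE] }
    have (j : s) : IsAffine j.1.1.2.1.1 := j.1.1.2.prop.1
    have (j : s) (k) : IsReduced ((opensDiagram D i' (𝒱' j)).obj k) := by
      dsimp; infer_instance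
    have (j : s) (k) : IsDominant ((opensCone D c i' (𝒱' j)).π.app k) :=
      isDominant_opensCone D c _ _ _
    choose k ak hk hk' using fun j ↦ affine_case
      _ (t𝒱 j) (f.resLE _ _ j.1.1.2.prop.2) _ (isLimitOpensCone D c hc i' (𝒱' j))
      (a.resLE _ _ ((h𝒱'𝒰 _).trans_le j.1.prop.2)) (by
      ext k
      simp [t𝒱, Hom.resLE_comp_resLE, show c.π.app k.left ≫ t.app k.left = a ≫ f from
        congr(($ha).app k.left)])
    obtain ⟨i'', fi''i', fi'', hi''⟩ := IsCofiltered.wideCospan fun j ↦ (k j).hom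
    refine ⟨i'', fi''i' ≫ fi'i, fun j ↦
      ⟨Scheme.homOfLE _ ?_ ≫ D.map (fi'' _) ∣_ _ ≫ ak j ≫ Opens.ι _, ?_, ?_⟩⟩
    · simp only [← Hom.comp_preimage, ← Functor.map_comp, 𝒱', reassoc_of% hi'']; rfl
    · have : ak j ≫ Opens.ι _ ≫ f = Opens.ι _ ≫ t.app (k j).left := by
        simpa [t𝒱] using! congr($(hk' j) ≫ Opens.ι _)
      simp [this]
    · have e : c.π.app i'' ⁻¹ᵁ D.map (fi''i' ≫ fi'i) ⁻¹ᵁ 𝒱 j ≤ c.π.app i' ⁻¹ᵁ 𝒱' j := by
        simp only [← Hom.comp_preimage, Cone.w, 𝒱']; rfl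
      simpa [← AlgebraicGeometry.Scheme.Hom.resLE_eq_morphismRestrict,
        Scheme.Hom.resLE_comp_resLE_assoc] using! congr(Scheme.homOfLE _ e ≫ $(hk j) ≫ Opens.ι _)
  choose k fki ak hak hak' using this
  obtain ⟨l, flk, hl⟩ : ∃ (l : I) (flk : l ⟶ k), ∀ j₁ j₂, Scheme.homOfLE _ inf_le_left ≫
      D.map flk ∣_ _ ≫ ak j₁ = Scheme.homOfLE _ inf_le_right ≫ D.map flk ∣_ _ ≫ ak j₂ := by
    let 𝒱' := (D.map fki ⁻¹ᵁ 𝒱 ·)
    have (j₁ j₂ : s) : ∃ (l : I) (flk : l ⟶ k), Scheme.homOfLE _ inf_le_left ≫ D.map flk ∣_ _ ≫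
        ak j₁ = Scheme.homOfLE _ inf_le_right ≫ D.map flk ∣_ _ ≫ ak j₂ := by
      have _ (x) : CompactSpace ↥((opensDiagram D k (𝒱' j₁ ⊓ 𝒱' j₂)).obj x) :=
        isCompact_iff_compactSpace.mp (QuasiCompact.isCompact_preimage _ (𝒱' j₁ ⊓ 𝒱' j₂).isOpen
          (((h𝒱𝒰 _).1.preimage _).isCompact.inter_of_isOpen ((h𝒱𝒰 _).1.preimage _).isCompact
            (D.map fki ⁻¹ᵁ 𝒱 j₁).2 (D.map fki ⁻¹ᵁ 𝒱 j₂).2))
      obtain ⟨⟨l, ⟨⟨⟩⟩, flk⟩, ⟨flk', ⟨⟨⟨⟩⟩⟩, h⟩, e⟩ :=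
        Scheme.exists_hom_comp_eq_comp_of_locallyOfFiniteType _
          (opensDiagramι .. ≫ (Over.forget k).whiskerLeft t) f _
          (isLimitOpensCone D c hc k (𝒱' j₁ ⊓ 𝒱' j₂)) (i := .mk (𝟙 k))
          (Scheme.homOfLE _ (by simp [𝒱']) ≫ ak j₁) (Scheme.homOfLE _ (by simp [𝒱']) ≫ ak j₂)
          (by simp [hak]) (by simp [hak]) (by simp; simp [Hom.resLE, hak'])
      obtain rfl : flk = flk' := by simpa using! h.symm
      refine ⟨l, flk, by simpa [← Scheme.Hom.resLE_eq_morphismRestrict] using! e⟩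
    choose l flk hflk using this
    obtain ⟨l', fl'k, fl'l, hl'⟩ := IsCofiltered.wideCospan (I := s × s) fun x ↦ flk x.1 x.2
    refine ⟨l', fl'k, fun j₁ j₂ ↦ ?_⟩
    have H : (D.map fl'k ≫ D.map fki) ⁻¹ᵁ (𝒱 j₁ ⊓ 𝒱 j₂) ≤
        (D.map (fl'l (j₁, j₂)) ≫ D.map (flk j₁ j₂) ≫ D.map fki) ⁻¹ᵁ (𝒱 j₁ ⊓ 𝒱 j₂) := by
      simp only [← Functor.map_comp, reassoc_of% hl']; rfl
    simpa [← Scheme.Hom.resLE_eq_morphismRestrict, Scheme.Hom.resLE_comp_resLE_assoc,
      ← Functor.map_comp, hl'] using! congr((D.map (fl'l (j₁, j₂))).resLE _ _ H ≫ $(hflk j₁ j₂))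
  let h𝒲 := (h𝒱.comap (D.map fki).base.hom).comap (D.map flk).base.hom
  let 𝒲 := Scheme.openCoverOfIsOpenCover _ (D.map flk ⁻¹ᵁ D.map fki ⁻¹ᵁ 𝒱 ·) h𝒲
  let F := 𝒲.glueMorphisms (fun j ↦ D.map flk ∣_ D.map fki ⁻¹ᵁ 𝒱 j ≫ ak j) (fun j₁ j₂ ↦ by
      rw [← cancel_epi (isPullback_opens_inf _ _).isoPullback.hom]
      simpa [𝒲] using! hl j₁ j₂)
  have hF (j : s) : (D.map flk ⁻¹ᵁ D.map fki ⁻¹ᵁ 𝒱 j).ι ≫ F = D.map flk ∣_ _ ≫ ak j :=
    Scheme.Cover.ι_glueMorphisms ..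
  refine ⟨l, F, ?_, ?_⟩
  · refine Cover.hom_ext (𝒲.pullback₁ (c.π.app l)) _ _ fun j ↦ ?_
    rw [← cancel_epi (isPullback_morphismRestrict _ _).flip.isoPullback.hom]
    dsimp [𝒲]
    simp only [pullback.condition_assoc, IsPullback.isoPullback_hom_snd_assoc,
      IsPullback.isoPullback_hom_fst_assoc, hF]
    have h : c.π.app l ⁻¹ᵁ D.map flk ⁻¹ᵁ D.map fki ⁻¹ᵁ 𝒱 j ≤ c.π.app k ⁻¹ᵁ D.map fki ⁻¹ᵁ 𝒱 j := by
      simp only [← Hom.comp_preimage, c.w_assoc, c.w]; rfl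
    simpa [← Scheme.Hom.resLE_eq_morphismRestrict, Scheme.Hom.resLE_comp_resLE_assoc] using!
      congr(Scheme.homOfLE _ h ≫ $(hak' j))
  · refine 𝒲.hom_ext _ _ fun j ↦ ?_
    simp [F, Cover.ι_glueMorphisms_assoc, hak]; rfl

end K342.LftDominant
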