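/-
The locus where an invertible module is generated by sections over preimages of opens of the base,
and its relation to the counit of pullback and pushforward.
-/
import Groth.Agent.Ega1.GlobGenPt
import Groth.Agent.Fdesc.LocGenPullback

set_option autoImplicit false

universe u

open CategoryTheory Limits AlgebraicGeometry TopologicalSpace Opposite
open Groth.Agent.Fdesc.LocGen Groth.Agent.Fdesc.Skyscraper

namespace K342.RelGen

variable {X Y X' Y' : Scheme.{u}}

/-- The locus where `L` is generated by a section over the preimage of an open of `Y`. -/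
def relLocus (f : X ⟶ Y) (L : X.Modules) : X.Opens :=
  sSup {U | ∃ (V : Y.Opens) (h : U ≤ f ⁻¹ᵁ V) (s : Γ(L, f ⁻¹ᵁ V)), IsGen (res L h s)}

theorem mem_relLocus {f : X ⟶ Y} {L : X.Modules} {x : X} : x ∈ relLocus f L ↔
    ∃ (U : X.Opens) (V : Y.Opens) (h : U ≤ f ⁻¹ᵁ V) (s : Γ(L, f ⁻¹ᵁ V)),
      x ∈ U ∧ IsGen (res L h s) := by
  rw [relLocus, Opens.mem_sSup]
  constructor
  · rintro ⟨U, ⟨V, h, s, hs⟩, hx⟩
    exact ⟨U, V, h, s, hx, hs⟩
  · rintro ⟨U, V, h, s, hx, hs⟩
    exact ⟨U, ⟨V, h, s, hs⟩, hx⟩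

/-- If the relative generating locus is everything, then the counit is an epimorphism. -/
theorem epi_counit {f : X ⟶ Y} {L : X.Modules} (H : relLocus f L = ⊤) :
    Epi ((Scheme.Modules.pullbackPushforwardAdjunction f).counit.app L) := by
  refine Preadditive.epi_of_cancel_zero _ fun {N} g hg => ?_
  change L ⟶ N at g
  have hε : ∀ (V : Y.Opens) (s : Γ(L, f ⁻¹ᵁ V)), g.app (f ⁻¹ᵁ V) s = 0 := by
    intro V s
    have h1 := homEquiv_app f ((Scheme.Modules.pullbackPushforwardAdjunction f).counit.app L)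
      (U := V) (show Γ((Scheme.Modules.pushforward f).obj L, V) from s)
    have h2 : (Scheme.Modules.pullbackPushforwardAdjunction f).homEquiv _ _
      ((Scheme.Modules.pullbackPushforwardAdjunction f).counit.app L) = 𝟙 _ := by
      rw [Adjunction.homEquiv_unit]
      exact (Scheme.Modules.pullbackPushforwardAdjunction f).right_triangle_components L
    rw [h2] at h1
    have h3 : ((Scheme.Modules.pullbackPushforwardAdjunction f).counit.app L).app (f ⁻¹ᵁ V)
        (pullSec f (show Γ((Scheme.Modules.pushforward f).obj L, V) from s)) = s := h1.symm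
    have h4 := congrArg (fun φ => φ.app (f ⁻¹ᵁ V)
      (pullSec f (show Γ((Scheme.Modules.pushforward f).obj L, V) from s))) hg
    rw [← h3]
    exact h4
  apply Scheme.Modules.hom_ext
  intro W
  ext m
  change Γ(L, W) at m
  choose! U V hUV s hxU hs using fun x (hx : x ∈ W) =>
    mem_relLocus.1 (show x ∈ relLocus f L from H ▸ trivial)
  refine res_ext N (fun x : W => W ⊓ U x.1) (fun _ => inf_le_left) ?_ ?_
  · intro x hx
    exact Opens.mem_iSup.2 ⟨⟨x, hx⟩, hx, hxU x hx⟩
  · rintro ⟨x, hx⟩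
    obtain ⟨a, ha⟩ := ((hs x hx).res (inf_le_right : W ⊓ U x ≤ U x)).exists_eq
      (res L (inf_le_left : W ⊓ U x ≤ W) m)
    change res N _ (g.app W m) = res N _ 0
    rw [← app_res]
    erw [ha]
    rw [ Scheme.Modules.Hom.app_smul, res_res, app_res, hε, map_zero, smul_zero,
      map_zero]

/-- If the counit is an epimorphism, then the relative generating locus of an invertible module is
everything. -/
theorem relLocus_eq_top {f : X ⟶ Y} {L : X.Modules} (hL : PicF.IsInvertible L)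
    (H : Epi ((Scheme.Modules.pullbackPushforwardAdjunction f).counit.app L)) :
    relLocus f L = ⊤ := by
  rw [eq_top_iff]
  intro x _
  by_contra hcon
  obtain ⟨U, e, hx, he⟩ := (isInvertible_iff L).1 hL x
  have key : ∀ (V : Y.Opens) (s : Γ(L, f ⁻¹ᵁ V)) (hV : x ∈ f ⁻¹ᵁ V),
      L.presheaf.germ (f ⁻¹ᵁ V) x hV s ∈
      (IsLocalRing.maximalIdeal (X.presheaf.stalk x) •
        (⊤ : Submodule (X.presheaf.stalk x) (L.presheaf.stalk x))) := by
    intro V s hV
    obtain ⟨a, ha⟩ := (he.res (inf_le_right : f ⁻¹ᵁ V ⊓ U ≤ U)).exists_eq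
      (res L (inf_le_left : f ⁻¹ᵁ V ⊓ U ≤ f ⁻¹ᵁ V) s)
    have h2 : x ∉ X.basicOpen a := by
      intro hxa
      apply hcon
      refine mem_relLocus.2 ⟨X.basicOpen a, V, (X.basicOpen_le a).trans inf_le_left, s, hxa, ?_⟩
      have h3 := congrArg (res L (X.basicOpen_le a)) ha
      rw [res_res, res_smul, res_res] at h3
      rw [h3]
      exact (he.res _).unit_smul (by exact X.toRingedSpace.isUnit_res_basicOpen a)
    have hx' : x ∈ f ⁻¹ᵁ V ⊓ U := ⟨hV, hx⟩
    rw [Scheme.mem_basicOpen X _ x hx'] at h2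
    have h3 : L.presheaf.germ (f ⁻¹ᵁ V) x hV s =
        L.presheaf.germ (f ⁻¹ᵁ V ⊓ U) x hx' (res L inf_le_left s) := by
      rw [Groth.Agent.Ega1.GlobGenPt.germ_res]
    rw [h3, ha, germ_smul]
    exact Submodule.smul_mem_smul ((IsLocalRing.mem_maximalIdeal _).2 h2) Submodule.mem_top
  let Q := L.presheaf.stalk x ⧸ (IsLocalRing.maximalIdeal (X.presheaf.stalk x) •
        (⊤ : Submodule (X.presheaf.stalk x) (L.presheaf.stalk x)))
  let q : L.presheaf.stalk x →ₗ[X.presheaf.stalk x] Q := Submodule.mkQ _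
  let ψ : L ⟶ sky x Q := toSky q
  have h0 : (Scheme.Modules.pushforward f).map ψ = 0 := by
    apply Scheme.Modules.hom_ext
    intro V
    ext s
    change ψ.app (f ⁻¹ᵁ V) s = (0 : Γ(sky x Q, f ⁻¹ᵁ V))
    refine (funext fun h => ?_ : (_ : Sec x Q (f ⁻¹ᵁ V)) = _)
    refine (toSky_app_apply q (f ⁻¹ᵁ V) s h).trans ?_
    exact (Submodule.Quotient.mk_eq_zero _).2 (key V s h.down)
  have h1 : ψ = 0 := by
    rw [← cancel_epi ((Scheme.Modules.pullbackPushforwardAdjunction f).counit.app L), comp_zero]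
    have h5 := (Scheme.Modules.pullbackPushforwardAdjunction f).counit.naturality ψ
    dsimp at h5
    rw [← h5, h0, Functor.map_zero, zero_comp]
  have h2 : q = 0 := by
    rw [← ofSky_toSky q]
    change ofSky ψ = 0
    rw [h1]
    ext t
    obtain ⟨V, hV, s, rfl⟩ := TopCat.Presheaf.exists_germ_eq L.presheaf t
    rw [ofSky_germ]
    rfl
  have h3 : q (L.presheaf.germ U x hx e) = 0 := by rw [h2]; rfl
  exact Groth.Agent.Ega1.GlobGenPt.germ_notMem_smul_top he x hx
    ((Submodule.Quotient.mk_eq_zero _).1 h3)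

/-- Compatibility of the relative generating locus with commutative squares. -/
theorem preimage_relLocus_le {f : X ⟶ Y} {f' : X' ⟶ Y'} {a : X' ⟶ X} {b : Y' ⟶ Y}
    (h : a ≫ f = f' ≫ b) (L : X.Modules) :
    a ⁻¹ᵁ relLocus f L ≤ relLocus f' ((Scheme.Modules.pullback a).obj L) := by
  intro x hx
  obtain ⟨U, V, hU, s, hxU, hs⟩ := mem_relLocus.1 (show a x ∈ relLocus f L from hx)
  have h1 : f' ⁻¹ᵁ (b ⁻¹ᵁ V) = a ⁻¹ᵁ (f ⁻¹ᵁ V) := by
    rw [← Scheme.Hom.comp_preimage, ← h, Scheme.Hom.comp_preimage]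
  have h2 : a ⁻¹ᵁ U ≤ f' ⁻¹ᵁ (b ⁻¹ᵁ V) := h1 ▸ a.preimage_mono hU
  refine mem_relLocus.2 ⟨a ⁻¹ᵁ U, b ⁻¹ᵁ V, h2, res _ h1.le (pullSec a s), hxU, ?_⟩
  rw [res_res]
  have h3 := hs.pullSec a
  rw [← res_pullSec] at h3
  exact h3

theorem relLocus_le_of_hom (f : X ⟶ Y) {L L' : X.Modules} (e : L ⟶ L') [IsIso e] :
    relLocus f L ≤ relLocus f L' := by
  intro x hx
  obtain ⟨U, V, hU, s, hxU, hs⟩ := mem_relLocus.1 hx
  refine mem_relLocus.2 ⟨U, V, hU, e.app _ s, hxU, ?_⟩
  rw [← app_res]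
  exact hs.app e

theorem relLocus_eq_of_iso (f : X ⟶ Y) {L L' : X.Modules} (e : L ≅ L') :
    relLocus f L = relLocus f L' :=
  le_antisymm (relLocus_le_of_hom f e.hom) (relLocus_le_of_hom f e.inv)

/-- Compatibility of the relative generating locus with commutative squares. -/
theorem preimage_relLocus_comp_le {Z : Scheme.{u}} {f : X ⟶ Y} {f' : X' ⟶ Y'} {a : X' ⟶ X}
    {b : Y' ⟶ Y} (h : a ≫ f = f' ≫ b) {p : X ⟶ Z} {q : X' ⟶ Z} (hq : a ≫ p = q) (L : Z.Modules) :
    a ⁻¹ᵁ relLocus f ((Scheme.Modules.pullback p).obj L) ≤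
      relLocus f' ((Scheme.Modules.pullback q).obj L) := by
  subst hq
  exact (preimage_relLocus_le h _).trans
    (relLocus_eq_of_iso f' ((Scheme.Modules.pullbackComp a p).app L)).le

end K342.RelGen
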