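import Groth.Agent.S9200
import Groth.Agent.S7383
import Mathlib.AlgebraicGeometry.Limits

/-!
# Affine morphisms as limits of affine morphisms of finite presentation
-/

set_option autoImplicit false
universe u
open CategoryTheory CategoryTheory.Limits AlgebraicGeometry

namespace K342.AffLim

theorem isAffineHom_of_isLimit {X Y : Scheme.{u}} (f : Y ⟶ X) {I : Type u} [SmallCategory I]
    [IsFiltered I] (D : Iᵒᵖ ⥤ Over X) (c : Cone D) (hc : IsLimit c)
    (hD : ∀ i, IsAffineHom (D.obj i).hom) (e : c.pt ≅ Over.mk f) : IsAffineHom f := by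
  obtain ⟨i₀⟩ := IsFiltered.nonempty (C := I)
  let D' : Iᵒᵖ ⥤ Scheme.{u} := D ⋙ Over.forget X
  let c' : Limits.Cone D' := (Over.forget X).mapCone c
  have hc' : Limits.IsLimit c' := Limits.isLimitOfPreserves (Over.forget X) hc
  have haff : ∀ {i j : Iᵒᵖ} (a : i ⟶ j), IsAffineHom (D'.map a) := fun {i j} a => by
    have h1 : IsAffineHom ((D.map a).left ≫ (D.obj j).hom) := by
      rw [Over.w (D.map a)]
      exact hD i
    have h2 := hD j
    exact .of_comp (D.map a).left (D.obj j).hom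
  have h3 : IsAffineHom (c'.π.app (Opposite.op i₀)) := isAffineHom_π_app D' c' hc' _
  have h4 := hD (Opposite.op i₀)
  have h5 : IsAffineHom ((c.π.app (Opposite.op i₀)).left ≫ (D.obj (Opposite.op i₀)).hom) := by
    have : IsAffineHom (c.π.app (Opposite.op i₀)).left := h3
    infer_instance
  have h6 : e.inv.left ≫ (c.π.app (Opposite.op i₀)).left ≫ (D.obj (Opposite.op i₀)).hom = f := by
    simp
  rw [← h6]
  infer_instance

theorem exists_isLimit {X Y : Scheme.{u}} (f : Y ⟶ X)
    [CompactSpace X] [QuasiSeparatedSpace X] [CompactSpace Y] [QuasiSeparatedSpace Y]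
    [IsAffineHom f] :
    ∃ (I : Type u) (_ : SmallCategory I) (_ : IsFiltered I) (D : Iᵒᵖ ⥤ Over X)
        (c : Limits.Cone D) (_ : Limits.IsLimit c),
        (∀ i, IsAffineHom (D.obj i).hom ∧ LocallyOfFinitePresentation (D.obj i).hom) ∧
        Nonempty (c.pt ≅ Over.mk f) := by
  obtain ⟨I, _, _, _, D, c, hc, hD, hD', ⟨e⟩⟩ := Groth.Agent.S7383.result f
  obtain ⟨i₀⟩ := (inferInstance : Nonempty I)
  let D' : Iᵒᵖ ⥤ Scheme.{u} := D ⋙ Over.forget X
  let c' : Limits.Cone D' := (Over.forget X).mapCone c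
  have hc' : Limits.IsLimit c' := Limits.isLimitOfPreserves (Over.forget X) hc
  let t : D' ⟶ (Functor.const _).obj X :=
    { app i := (D.obj i).hom
      naturality i j a := (Over.w (D.map a)).trans (Category.comp_id _).symm }
  have haff : ∀ (i j : Iᵒᵖ) (a : i ⟶ j), IsAffineHom (D'.map a) := hD'
  have hqc : ∀ i, CompactSpace (D'.obj i) := fun i ↦
    @QuasiCompact.compactSpace_of_compactSpace _ _ (D.obj i).hom (hD i).2.1 _
  have hqs : ∀ i, QuasiSeparatedSpace (D'.obj i) := fun i ↦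
    @quasiSeparatedSpace_of_quasiSeparated _ _ (D.obj i).hom _ (hD i).2.2
  have h1 : IsAffineHom (c'.π.app (Opposite.op i₀) ≫ t.app (Opposite.op i₀)) := by
    have h7 := Over.w (e.hom)
    have h8 := Over.w (c.π.app (Opposite.op i₀))
    have h9 : c'.π.app (Opposite.op i₀) ≫ t.app (Opposite.op i₀) = e.hom.left ≫ f :=
      h8.trans h7.symm
    rw [h9]
    let g : c.pt.left ⟶ Y := e.hom.left
    have : IsIso g := inferInstanceAs (IsIso e.hom.left)
    exact (inferInstance : IsAffineHom (g ≫ f))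
  obtain ⟨i₁, hi₁⟩ := Groth.Agent.S9200.result X D' t c' hc' (Opposite.op i₀)
  refine ⟨(Over i₁)ᵒᵖ, inferInstance, inferInstance, unopUnop (Over i₁) ⋙ Over.forget i₁ ⋙ D,
    (c.whisker (Over.forget i₁)).whisker (unopUnop (Over i₁)), ?_, fun i ↦ ⟨?_, ?_⟩, ⟨e⟩⟩
  · exact (Functor.Initial.isLimitWhiskerEquiv (unopUnop (Over i₁)) _).symm
      ((Functor.Initial.isLimitWhiskerEquiv (Over.forget i₁) c).symm hc)
  · exact hi₁ _ i.unop.unop.hom
  · exact (hD _).1

end K342.AffLim
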