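import Groth.Agent.Lim.K342.RelFP
import Groth.Agent.S0384
import Groth.Agent.Flat2C.Admissible
import Groth.Agent.Flat2C.BlowProper
import Groth.Agent.Divis.CartierCompl
import Groth.Agent.Divis.BlowUpFormal

/-!
# A separated morphism of qcqs schemes is affine followed by proper
-/

set_option autoImplicit false
universe u
open CategoryTheory CategoryTheory.Limits AlgebraicGeometry

namespace K342.AffProper

/-- A quasi-compact open immersion becomes affine after a blow-up of the boundary. -/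
theorem exists_affine_of_openImmersion {U P : Scheme.{u}} [CompactSpace P] [QuasiSeparatedSpace P]
    (j : U ⟶ P) [IsOpenImmersion j] [QuasiCompact j] :
    ∃ (P' : Scheme.{u}) (b : P' ⟶ P) (j' : U ⟶ P'), IsProper b ∧ IsOpenImmersion j' ∧
      IsAffineHom j' ∧ j' ≫ b = j := by
  have hcomp : CompactSpace U := QuasiCompact.compactSpace_of_compactSpace j
  let V : P.Opens := j.opensRange
  have hV : IsCompact (V : Set P) := isCompact_range j.continuous
  obtain ⟨I, hI, hIs⟩ := Groth.Agent.Flat2C.Admissible.exists_support_eq V hV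
  obtain ⟨P', b, hb⟩ := Groth.Agent.Flat2C.BlowExist.exists_isBlowUp I
  have hpre : b ⁻¹ᵁ V = (I.comap b).support.compl := by
    rw [Scheme.IdealSheafData.support_comap]
    ext x
    show b x ∈ V ↔ ¬ (b x ∈ (I.support : Set P))
    rw [hIs]
    simp
  have hiso : IsIso (b ∣_ V) :=
    Groth.Agent.Divis.BlowUpFormal.isIso_morphismRestrict_compl_support hb V (by
      rw [hIs]; exact disjoint_compl_right)
  have haff : IsAffineHom (b ⁻¹ᵁ V).ι := by
    rw [hpre]
    exact Groth.Agent.Divis.CartierCompl.isAffineHom_compl hb.1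
  have hprop : IsProper b := Groth.Agent.Flat2C.BlowProper.isProper_of_isBlowUp hb hI
  let e : U ≅ (V : Scheme.{u}) := j.isoOpensRange
  have he : e.hom ≫ V.ι = j := j.isoOpensRange_hom_ι
  refine ⟨P', b, e.hom ≫ inv (b ∣_ V) ≫ (b ⁻¹ᵁ V).ι, hprop, inferInstance, inferInstance, ?_⟩
  have h1 : (b ⁻¹ᵁ V).ι ≫ b = (b ∣_ V) ≫ V.ι := (morphismRestrict_ι b V).symm
  rw [Category.assoc, Category.assoc, h1, IsIso.inv_hom_id_assoc, he]

theorem exists_affineHom_comp_proper {X Y : Scheme.{u}} (f : Y ⟶ X)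
    [CompactSpace X] [QuasiSeparatedSpace X] [CompactSpace Y] [QuasiSeparatedSpace Y]
    [IsSeparated f] :
    ∃ (Z : Scheme.{u}) (g : Y ⟶ Z) (h : Z ⟶ X), IsAffineHom g ∧ IsProper h ∧ g ≫ h = f := by
  obtain ⟨Z₁, g₁, h₁, h2, h3, h4, h5, h6, h7⟩ := RelFP.exists_affineHom_comp f
  have h8 : IsSeparated h₁ := h6 inferInstance
  obtain ⟨Z₂, j, h₂, h9, h10, h11, h12⟩ := Groth.Agent.S0384.result h₁
  have : CompactSpace Z₂ := QuasiCompact.compactSpace_of_compactSpace h₂
  have : QuasiSeparatedSpace Z₂ := quasiSeparatedSpace_of_quasiSeparated h₂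
  obtain ⟨Z, b, j', h13, h14, h15, h16⟩ := exists_affine_of_openImmersion j
  refine ⟨Z, g₁ ≫ j', b ≫ h₂, inferInstance, inferInstance, ?_⟩
  rw [Category.assoc, ← Category.assoc j', h16, h12, h7]

end K342.AffProper
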