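import Groth.Agent.S0590
import Groth.Agent.CalgA.LimSep
import Mathlib.AlgebraicGeometry.Morphisms.FinitePresentation

/-!
# A morphism of quasi-compact quasi-separated schemes factors as affine followed by finite presentation

`exists_model`: a morphism `f : Y ⟶ X` of qcqs schemes sits in a commutative square with affine
horizontal maps `Y ⟶ A`, `X ⟶ B` and `A ⟶ B` of finite presentation; if `f` is separated, `A ⟶ B`
can be taken separated.
`exists_affineHom_comp`: `f` is an affine morphism followed by a morphism of finite presentation,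
separated if `f` is separated.
-/

set_option autoImplicit false
universe u
open CategoryTheory CategoryTheory.Limits AlgebraicGeometry

namespace K342.RelFP

instance isNoetherianRing_uliftZ : IsNoetherianRing (ULift.{u} ℤ) :=
  isNoetherianRing_of_ringEquiv ℤ ULift.ringEquiv.symm

theorem isLocallyNoetherian_of_lft (S : Scheme.{u})
    [LocallyOfFiniteType (specULiftZIsTerminal.from S)] : IsLocallyNoetherian S :=
  LocallyOfFiniteType.isLocallyNoetherian (Limits.IsTerminal.from specULiftZIsTerminal S)

theorem exists_model {X Y : Scheme.{u}} (f : Y ⟶ X)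
    [CompactSpace X] [QuasiSeparatedSpace X] [CompactSpace Y] [QuasiSeparatedSpace Y] :
    ∃ (A B : Scheme.{u}) (a : Y ⟶ A) (b : X ⟶ B) (g : A ⟶ B), IsAffineHom a ∧ IsAffineHom b ∧
      a ≫ g = f ≫ b ∧ IsNoetherian A ∧ IsNoetherian B ∧ LocallyOfFinitePresentation g ∧
      QuasiCompact g ∧ QuasiSeparated g ∧ (IsSeparated f → IsSeparated g) := by
  obtain ⟨I, _, _, _, D, c, hc, hD, hD', ⟨e⟩⟩ := Groth.Agent.S0590.result Y
  obtain ⟨J, _, _, _, E, c', hc', hE, hE', ⟨e'⟩⟩ := Groth.Agent.S0590.result X
  have inst0 : ∀ {i j : Iᵒᵖ} (f : i ⟶ j), IsAffineHom (D.map f) := fun f => hD _ _ f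
  have inst0' : ∀ {i j : Jᵒᵖ} (f : i ⟶ j), IsAffineHom (E.map f) := fun f => hE _ _ f
  have inst1 : ∀ i, CompactSpace (D.obj i) := fun i => (hD' i).1
  have inst1' : ∀ i, CompactSpace (E.obj i) := fun i => (hE' i).1
  have inst2 : ∀ i, LocallyOfFiniteType (specULiftZIsTerminal.from (D.obj i)) := fun i => (hD' i).2
  have inst2' : ∀ i, LocallyOfFiniteType (specULiftZIsTerminal.from (E.obj i)) := fun i => (hE' i).2
  have inst4 : ∀ i, IsLocallyNoetherian (D.obj i) := fun i => isLocallyNoetherian_of_lft _
  have inst4' : ∀ i, IsLocallyNoetherian (E.obj i) := fun i => isLocallyNoetherian_of_lft _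
  obtain ⟨j⟩ := (inferInstance : Nonempty J)
  let B := E.obj (Opposite.op j)
  let b₀ : c'.pt ⟶ B := c'.π.app (Opposite.op j)
  have hb₀ : IsAffineHom b₀ := isAffineHom_π_app E c' hc' _
  let b : X ⟶ B := e'.inv ≫ b₀
  let t : D ⟶ (Functor.const _).obj (Spec (CommRingCat.of (ULift.{u} ℤ))) :=
    { app i := specULiftZIsTerminal.from (D.obj i)
      naturality _ _ _ := specULiftZIsTerminal.hom_ext _ _ }
  have hlfp : LocallyOfFinitePresentation (specULiftZIsTerminal.from B) := inferInstance
  obtain ⟨i, g, hg, -⟩ := Scheme.exists_π_app_comp_eq_of_locallyOfFinitePresentation D t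
    (specULiftZIsTerminal.from B) c hc (e.hom ≫ f ≫ b) (by
      ext i
      exact specULiftZIsTerminal.hom_ext _ _)
  have hft : ∀ (k : Iᵒᵖ) (h : D.obj k ⟶ B), LocallyOfFinitePresentation h := fun k h ↦ by
    have h1 : LocallyOfFiniteType (h ≫ specULiftZIsTerminal.from B) := by
      rw [specULiftZIsTerminal.hom_ext (h ≫ specULiftZIsTerminal.from B)
        (specULiftZIsTerminal.from (D.obj k))]
      infer_instance
    have h2 : LocallyOfFiniteType h := locallyOfFiniteType_of_comp h (specULiftZIsTerminal.from B)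
    infer_instance
  by_cases hf : IsSeparated f
  · let E' : Over i ⥤ Scheme.{u} := Over.forget i ⋙ D
    let cE' : Cone E' := c.whisker (Over.forget i)
    have hcE' : IsLimit cE' := (Functor.Initial.isLimitWhiskerEquiv (Over.forget i) c).symm hc
    let B' : Over i ⥤ Scheme.{u} := (Functor.const _).obj B
    let φ : E' ⟶ B' :=
      { app k := D.map k.hom ≫ g
        naturality k l h := by
          have h1 : D.map h.left ≫ D.map l.hom = D.map k.hom := by rw [← D.map_comp, Over.w h]
          exact (congr($h1 ≫ g)).trans (Category.comp_id _).symm }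
    let cB' : Cone B' := ⟨B, { app k := 𝟙 B, naturality _ _ _ := rfl }⟩
    have hcB' : IsLimit cB' :=
      { lift s := s.π.app (Over.mk (𝟙 i))
        fac s k := by
          have h1 := s.w (Over.mkIdTerminal.from k)
          simp only [B', Functor.const_obj_map] at h1
          simp only [cB', Category.comp_id]
          exact (Category.comp_id _).symm.trans h1 |>.symm ▸ rfl
        uniq s m hm := by
          have := hm (Over.mk (𝟙 i))
          exact (Category.comp_id _).symm.trans this }
    have : ∀ {k l : Over i} (φ : k ⟶ l), IsAffineHom (E'.map φ) := fun φ ↦ inst0 _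
    have : ∀ {k l : Over i} (φ : k ⟶ l), IsSeparated (B'.map φ) := fun φ ↦
      inferInstanceAs (IsSeparated (𝟙 B))
    have : ∀ k, CompactSpace (E'.obj k) := fun k ↦ inst1 _
    have : ∀ k, QuasiSeparatedSpace (E'.obj k) := fun k ↦
      inferInstanceAs (QuasiSeparatedSpace (D.obj _))
    have : ∀ k, QuasiSeparatedSpace (B'.obj k) := fun k ↦
      inferInstanceAs (QuasiSeparatedSpace B)
    let F : cE'.pt ⟶ cB'.pt := e.hom ≫ f ≫ b
    have hF : IsSeparated F := by
      change IsSeparated (e.hom ≫ f ≫ b)
      infer_instance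
    obtain ⟨k, hk⟩ := Groth.Agent.CalgA.LimSep.exists_forall_isSeparated_of_isLimit φ cE' cB' F
      hcE' hcB' (fun k ↦ by
        change (e.hom ≫ f ≫ b) ≫ 𝟙 _ = c.π.app k.left ≫ D.map k.hom ≫ g
        rw [Category.comp_id, ← Category.assoc (c.π.app k.left), c.w, hg])
    have h1 : IsSeparated (D.map k.hom ≫ g) := hk k (𝟙 k)
    refine ⟨D.obj k.left, B, e.inv ≫ c.π.app k.left, b, D.map k.hom ≫ g, ?_, inferInstance, ?_,
      ⟨⟩, ⟨⟩, hft _ _, inferInstance, inferInstance, fun _ ↦ h1⟩
    · have := isAffineHom_π_app D c hc k.left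
      infer_instance
    · rw [Category.assoc, ← Category.assoc (c.π.app k.left), c.w, hg, Iso.inv_hom_id_assoc]
  · refine ⟨D.obj i, B, e.inv ≫ c.π.app i, b, g, ?_, inferInstance, ?_, ⟨⟩, ⟨⟩, hft _ _,
      inferInstance, inferInstance, fun h ↦ absurd h hf⟩
    · have := isAffineHom_π_app D c hc i
      infer_instance
    · rw [Category.assoc, hg, Iso.inv_hom_id_assoc]

theorem exists_affineHom_comp {X Y : Scheme.{u}} (f : Y ⟶ X)
    [CompactSpace X] [QuasiSeparatedSpace X] [CompactSpace Y] [QuasiSeparatedSpace Y] :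
    ∃ (Z : Scheme.{u}) (g : Y ⟶ Z) (h : Z ⟶ X), IsAffineHom g ∧ LocallyOfFinitePresentation h ∧
      QuasiCompact h ∧ QuasiSeparated h ∧ (IsSeparated f → IsSeparated h) ∧ g ≫ h = f := by
  obtain ⟨A, B, a, b, g, h1, h2, h3, _, _, h4, h5, h6, h7⟩ := exists_model f
  have h8 : IsAffineHom (pullback.fst g b) :=
    MorphismProperty.pullback_fst (P := @IsAffineHom) g b inferInstance
  have h9 : IsAffineHom (pullback.lift a f h3 ≫ pullback.fst g b) := by
    rw [pullback.lift_fst]
    infer_instance
  have h10 : LocallyOfFinitePresentation (pullback.snd g b) := inferInstance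
  refine ⟨pullback g b, pullback.lift a f h3, pullback.snd g b, ?_, inferInstance, inferInstance,
    inferInstance, fun hf ↦ ?_, pullback.lift_snd _ _ _⟩
  · exact .of_comp _ (pullback.fst g b)
  · have := h7 hf
    infer_instance

end K342.RelFP
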