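import Groth.Agent.Ega3B.LimInvK1
import Groth.Agent.Ega2.FiniteSet
import Groth.Agent.Flat2H.AmpleLimit
import Groth.Agent.Lim.K342.RelFP

/-!
# A morphism from the spectrum of an integral algebra over a field lands in an affine `X_s`
-/

set_option autoImplicit false
universe u
open CategoryTheory CategoryTheory.Limits AlgebraicGeometry TopologicalSpace Opposite

namespace K342.AmpleIntegral

open Groth.Agent.Flat2H.FamExt Groth.Agent.Flat2H.FamDict Groth.Agent.Flat2H.FamOpen
open Groth.Agent.Ega3B.LimInv Groth.Agent.Etcore.FGLim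

/-- The image of `Spec A`, `A` integral over a field, in a noetherian scheme locally of finite type over
`ℤ` is finite. -/
theorem finite_range {Y : Scheme.{u}} [LocallyOfFiniteType (specULiftZIsTerminal.from Y)]
    (k A : Type u) [Field k] [CommRing A] [Algebra k A] [Algebra.IsIntegral k A]
    (h : Spec (CommRingCat.of A) ⟶ Y) : (Set.range h).Finite := by
  have inst0 : ∀ {i j : (FGSub k A)ᵒᵖ} (f : i ⟶ j), IsAffineHom ((fgD k A).map f) :=
    fun f ↦ inferInstance
  let t : fgD k A ⟶ (Functor.const _).obj (Spec (CommRingCat.of (ULift.{u} ℤ))) :=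
    { app i := specULiftZIsTerminal.from ((fgD k A).obj i)
      naturality _ _ _ := specULiftZIsTerminal.hom_ext _ _ }
  obtain ⟨i, g, hg, -⟩ := Scheme.exists_π_app_comp_eq_of_locallyOfFinitePresentation (fgD k A) t
    (specULiftZIsTerminal.from Y) (fgC k A) (isLimitFgC k A) h (by
      ext i
      exact specULiftZIsTerminal.hom_ext _ _)
  have h1 : Set.range h ⊆ Set.range g := by
    rintro _ ⟨x, rfl⟩
    refine ⟨(fgC k A).π.app i x, ?_⟩
    rw [← Scheme.Hom.comp_apply, hg]
    rfl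
  refine Set.Finite.subset ?_ h1
  have hft : Algebra.FiniteType k i.unop.1 := (Subalgebra.fg_iff_finiteType _).mp i.unop.2
  have hint : Algebra.IsIntegral k i.unop.1 :=
    Algebra.IsIntegral.of_injective i.unop.1.val Subtype.val_injective
  have hfin : Module.Finite k i.unop.1 := Algebra.IsIntegral.finite
  have hart : IsArtinianRing i.unop.1 := IsArtinianRing.of_finite k i.unop.1
  have : Finite ((fgD k A).obj i) := inferInstanceAs (Finite (PrimeSpectrum i.unop.1))
  exact Set.finite_range g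

theorem isAmple_pullback_map {I : Type u} [SmallCategory I] {D : I ⥤ Scheme.{u}}
    [∀ (i j : I) (f : i ⟶ j), IsAffineHom (D.map f)] {i j k : I} (f : j ⟶ i) (f' : k ⟶ j)
    {M : (D.obj i).Modules} (h : CohB1.IsAmple ((Scheme.Modules.pullback (D.map f)).obj M)) :
    CohB1.IsAmple ((Scheme.Modules.pullback (D.map (f' ≫ f))).obj M) := by
  have h1 := isAmple_pullback_of_isAffineHom (D.map f') h
  refine isAmple_of_iso ?_ h1
  exact (Scheme.Modules.pullbackComp (D.map f') (D.map f)).app M ≪≫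
    (Scheme.Modules.pullbackCongr (D.map_comp f' f).symm).app M

theorem main {X : Scheme.{u}} (L : X.Modules) (hL : CohB1.IsAmple L)
    (k A : Type u) [Field k] [CommRing A] [Algebra k A] [Algebra.IsIntegral k A]
    (W : X.Opens) (g : Spec (CommRingCat.of A) ⟶ X) (hg : Set.range g ⊆ (W : Set X)) :
    ∃ (n : ℕ) (s : Coh.structureModule X ⟶ CohB1.tensorPow L (n + 1)),
      IsAffineOpen (CohB1.genLocus _ s) ∧ CohB1.genLocus _ s ≤ W ∧
        Set.range g ⊆ (CohB1.genLocus _ s : Set X) := by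
  have hXc : CompactSpace X := hL.2.1
  have hXs : QuasiSeparatedSpace X := quasiSeparatedSpace_of_isAmple hL
  obtain ⟨I, _, _, _, D, c, hc, hD, hD', ⟨e⟩⟩ := Groth.Agent.S0590.result X
  have inst0 : ∀ {i j : Iᵒᵖ} (f : i ⟶ j), IsAffineHom (D.map f) := fun f => hD _ _ f
  have inst0' : ∀ (i j : Iᵒᵖ) (f : i ⟶ j), IsAffineHom (D.map f) := hD
  have inst1 : ∀ i, CompactSpace (D.obj i) := fun i => (hD' i).1
  have inst2 : ∀ i, LocallyOfFiniteType (specULiftZIsTerminal.from (D.obj i)) := fun i => (hD' i).2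
  have inst4 : ∀ i, IsLocallyNoetherian (D.obj i) := fun i => RelFP.isLocallyNoetherian_of_lft _
  -- the invertible module descends
  have hL' : CohB1.IsAmple ((Scheme.Modules.pullback e.hom).obj L) :=
    isAmple_pullback_of_isAffineHom e.hom hL
  obtain ⟨i₀, M, hM, ⟨φ⟩⟩ := exists_invertible D c hc hL'.1
  obtain ⟨i₁, f₁, hM₁⟩ := Groth.Agent.Flat2H.AmpleLimit.exists_isAmple_pullback hc hM
    (isAmple_of_iso φ.symm hL')
  -- the open descends
  have hgc : IsCompact (Set.range g) := isCompact_range g.continuous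
  obtain ⟨U, hU, hUo, hgU, hUW⟩ := PrespectralSpace.exists_isCompact_and_isOpen_between hgc
    W.isOpen hg
  let U' : X.Opens := ⟨U, hUo⟩
  have hUc : IsCompact ((e.hom ⁻¹ᵁ U' : c.pt.Opens) : Set c.pt) :=
    QuasiCompact.isCompact_preimage (f := e.hom) _ U'.2 hU
  obtain ⟨i₂, V, hV, hVeq⟩ := exists_preimage_eq D c hc (e.hom ⁻¹ᵁ U') hUc
  obtain ⟨j, a₁, a₂, -⟩ := IsCofilteredOrEmpty.cone_objs i₁ i₂
  let q : X ⟶ D.obj j := e.inv ≫ c.π.app j
  have hqaff : IsAffineHom q := by
    have := isAffineHom_π_app D c hc j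
    exact inferInstanceAs (IsAffineHom (e.inv ≫ c.π.app j))
  have hVq : q ⁻¹ᵁ (D.map a₂ ⁻¹ᵁ V) = U' := by
    have h1 : q ≫ D.map a₂ = e.inv ≫ c.π.app i₂ := by
      simp only [q, Category.assoc, c.w]
    rw [← Scheme.Hom.comp_preimage, h1, Scheme.Hom.comp_preimage, hVeq, ← Scheme.Hom.comp_preimage,
      Iso.inv_hom_id]
    rfl
  have hMj := isAmple_pullback_map f₁ a₁ hM₁
  obtain ⟨n, s, hs1, hs2, hs3⟩ := Groth.Agent.Ega2.FiniteSet.exists_affine_genLocus_of_finite hMj
    (Set.range (g ≫ q)) (finite_range k A (g ≫ q)) (D.map a₂ ⁻¹ᵁ V) (by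
      rintro _ ⟨x, rfl⟩
      have h1 : g x ∈ q ⁻¹ᵁ (D.map a₂ ⁻¹ᵁ V) := by
        rw [hVq]
        exact hgU ⟨x, rfl⟩
      exact h1)
  -- pull the section back
  have ψ : (Scheme.Modules.pullback q).obj ((Scheme.Modules.pullback (D.map (a₁ ≫ f₁))).obj M) ≅ L :=
    (Scheme.Modules.pullbackComp q (D.map (a₁ ≫ f₁))).app M ≪≫
    (Scheme.Modules.pullbackCongr (show q ≫ D.map (a₁ ≫ f₁) = e.inv ≫ c.π.app i₀ by
      simp only [q, Category.assoc, c.w])).app M ≪≫
    ((Scheme.Modules.pullbackComp e.inv (c.π.app i₀)).app M).symm ≪≫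
    (Scheme.Modules.pullback e.inv).mapIso φ ≪≫
    (Scheme.Modules.pullbackComp e.inv e.hom).app L ≪≫
    (Scheme.Modules.pullbackCongr e.inv_hom_id).app L ≪≫
    (Scheme.Modules.pullbackId X).app L
  obtain ⟨m, Z, γ, -, hZ⟩ := exists_trivs hMj.1 (fun _ ↦ True) (fun U x hx ↦ ⟨U, hx, le_rfl, trivial⟩)
  obtain ⟨b, hb, hsb⟩ := (hZ.tensorPow (n + 1)).exists_fam s
  have hb' := IsFam.app q hb
  obtain ⟨s', hs'⟩ := (((hZ.pullback q).of_iso ψ).tensorPow (n + 1)).exists_sec
    (fun j ↦ q.app (Z j) (b j)) (by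
      intro i j
      have := hb' i j
      simp only [map_pow] at this
      exact this)
  have hloc : CohB1.genLocus _ s' = q ⁻¹ᵁ CohB1.genLocus _ s := by
    rw [hs', hsb]
    exact (preimage_locus q b).symm
  refine ⟨n, s', ?_, ?_, ?_⟩
  · rw [hloc]
    exact hs3.preimage q
  · rw [hloc]
    refine (q.preimage_mono hs2).trans ?_
    rw [hVq]
    exact hUW
  · rw [hloc]
    rintro _ ⟨x, rfl⟩
    exact hs1 ⟨x, rfl⟩

end K342.AmpleIntegral
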