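import Mathlib.AlgebraicGeometry.Morphisms.FinitePresentation
import Mathlib.AlgebraicGeometry.PullbackCarrier
import Mathlib.AlgebraicGeometry.Morphisms.QuasiCompact
import Mathlib.LinearAlgebra.TensorProduct.RightExactness

/-!
# Closed subsets of a base change avoiding a fibre come from a finitely presented base
-/

set_option autoImplicit false
universe u
open CategoryTheory CategoryTheory.Limits AlgebraicGeometry TensorProduct

namespace K342.AvoidFibre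

section alg

variable {A B C : Type u} [CommRing A] [CommRing B] [CommRing C] [Algebra A B] [Algebra A C]

open Algebra.TensorProduct

theorem exists_sum (p : Ideal B) (z : C ⊗[A] B)
    (hz : z ∈ p.map (includeRight : B →ₐ[A] C ⊗[A] B)) :
    ∃ (n : ℕ) (c : Fin n → C) (y : Fin n → B), (∀ k, y k ∈ p) ∧ z = ∑ k, c k ⊗ₜ[A] y k := by
  have h1 : z ∈ (p.map (includeRight : B →ₐ[A] C ⊗[A] B)).restrictScalars A := hz
  rw [Ideal.map_includeRight_eq] at h1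
  obtain ⟨w, rfl⟩ := h1
  induction w using TensorProduct.induction_on with
  | zero => exact ⟨0, Fin.elim0, Fin.elim0, fun k ↦ k.elim0, by simp⟩
  | tmul c y => 
    refine ⟨1, fun _ ↦ c, fun _ ↦ y.1, fun _ ↦ y.2, ?_⟩
    simp
  | add a b ha hb =>
    obtain ⟨n, c, y, h1, h2⟩ := ha (by
      have : (LinearMap.lTensor C (Submodule.subtype (Submodule.restrictScalars A p))) a ∈
        (p.map (includeRight : B →ₐ[A] C ⊗[A] B)).restrictScalars A := by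
        rw [Ideal.map_includeRight_eq]
        exact ⟨a, rfl⟩
      exact this)
    obtain ⟨m, c', y', h1', h2'⟩ := hb (by
      have : (LinearMap.lTensor C (Submodule.subtype (Submodule.restrictScalars A p))) b ∈
        (p.map (includeRight : B →ₐ[A] C ⊗[A] B)).restrictScalars A := by
        rw [Ideal.map_includeRight_eq]
        exact ⟨b, rfl⟩
      exact this)
    refine ⟨n + m, Fin.append c c', Fin.append y y', ?_, ?_⟩
    · intro k
      refine Fin.addCases (fun i ↦ ?_) (fun i ↦ ?_) k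
      · simpa using h1 i
      · simpa using h1' i
    · rw [map_add, h2, h2', Fin.sum_univ_add]
      simp

theorem exists_elt (p : PrimeSpectrum B) (I : Ideal (C ⊗[A] B))
    (h : ∀ q : PrimeSpectrum (C ⊗[A] B), q ∈ PrimeSpectrum.zeroLocus (I : Set (C ⊗[A] B)) →
      PrimeSpectrum.comap (includeRight : B →ₐ[A] C ⊗[A] B).toRingHom q ≠ p) :
    ∃ (b : B) (n : ℕ) (c : Fin n → C) (y : Fin n → B), b ∉ p.asIdeal ∧ (∀ k, y k ∈ p.asIdeal) ∧
      ((1 : C) ⊗ₜ[A] b - ∑ k, c k ⊗ₜ[A] y k) ∈ I := by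
  let J : Ideal (C ⊗[A] B) := I ⊔ p.asIdeal.map (includeRight : B →ₐ[A] C ⊗[A] B)
  let M : Submonoid (C ⊗[A] B) :=
    p.asIdeal.primeCompl.map (includeRight : B →ₐ[A] C ⊗[A] B)
  have h1 : ¬ Disjoint (J : Set (C ⊗[A] B)) (M : Set (C ⊗[A] B)) := by
    intro hd
    obtain ⟨q, hq, hJq, hqM⟩ := Ideal.exists_le_prime_disjoint _ _ hd
    refine h ⟨q, hq⟩ (le_sup_left.trans hJq) ?_
    ext x
    constructor
    · intro hx
      by_contra hxp
      exact Set.disjoint_left.mp hqM (show includeRight x ∈ q from hx) ⟨x, hxp, rfl⟩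
    · intro hx
      exact hJq (Ideal.mem_sup_right (Ideal.mem_map_of_mem _ hx))
  rw [Set.not_disjoint_iff] at h1
  obtain ⟨_, hz, b, hb, rfl⟩ := h1
  obtain ⟨x, hx, w, hw, hxw⟩ := Submodule.mem_sup.mp hz
  obtain ⟨n, c, y, hy, rfl⟩ := exists_sum p.asIdeal w hw
  refine ⟨b, n, c, y, hb, hy, ?_⟩
  have : (1 : C) ⊗ₜ[A] b = x + ∑ k, c k ⊗ₜ[A] y k := hxw.symm
  rw [this, add_sub_cancel_right]
  exact hx

end alg

section chart

variable {X S T : Scheme.{u}} (f : X ⟶ S) {A C R : CommRingCat.{u}} (iS : Spec A ⟶ S)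
  (iX : Spec C ⟶ X) (ψ : A ⟶ C) (hψ : iX ≫ f = Spec.map ψ ≫ iS) (ρ : A ⟶ R)
  (e : T ≅ Spec R) (b : T ⟶ S) (hb : b = e.hom ≫ Spec.map ρ ≫ iS)

include hψ hb in
/-- The chart `Spec (C ⊗[A] R) ⟶ X ×[S] T`. -/
theorem exists_chart [IsOpenImmersion iX] [Mono iS] [Algebra A C] [Algebra A R]
    (hC : algebraMap A C = ψ.hom) (hR : algebraMap A R = ρ.hom) :
    ∃ q : Spec (CommRingCat.of (C ⊗[A] R)) ⟶ pullback f b, IsOpenImmersion q ∧
      q ≫ pullback.fst f b = Spec.map (CommRingCat.ofHom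
        (Algebra.TensorProduct.includeLeft : C →ₐ[A] C ⊗[A] R).toRingHom) ≫ iX ∧
      q ≫ pullback.snd f b = Spec.map (CommRingCat.ofHom
        (Algebra.TensorProduct.includeRight : R →ₐ[A] C ⊗[A] R).toRingHom) ≫ e.inv ∧
      ∀ w, pullback.fst f b w ∈ Set.range iX → w ∈ Set.range q := by
  have h1 : Spec.map (CommRingCat.ofHom (algebraMap A C)) ≫ iS = iX ≫ f := by
    rw [hψ, hC]; rfl
  have h2 : Spec.map (CommRingCat.ofHom (algebraMap A R)) ≫ iS = e.inv ≫ b := by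
    rw [hb, hR, Iso.inv_hom_id_assoc]; rfl
  refine ⟨(pullbackSpecIso A C R).inv ≫ pullback.map _ _ f b iX e.inv iS h1 h2, inferInstance,
    ?_, ?_, ?_⟩
  · rw [Category.assoc, pullback.lift_fst, ← Category.assoc, pullbackSpecIso_inv_fst]
    rfl
  · rw [Category.assoc, pullback.lift_snd, ← Category.assoc, pullbackSpecIso_inv_snd]
    rfl
  · intro w hw
    have h3 : w ∈ Set.range (pullback.map _ _ f b iX e.inv iS h1 h2) := by
      rw [Scheme.Pullback.range_map]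
      refine ⟨hw, ?_⟩
      have : Function.Surjective e.inv := e.inv.surjective
      exact this _
    obtain ⟨v, rfl⟩ := h3
    refine ⟨(pullbackSpecIso A C R).hom v, ?_⟩
    rw [← Scheme.Hom.comp_apply, Iso.hom_inv_id_assoc]

end chart

section local_data

variable {X S T : Scheme.{u}} (f : X ⟶ S) (g : T ⟶ S) {S' : S.Opens} (hS' : IsAffineOpen S')
  {V : T.Opens} (hV : IsAffineOpen V) (hVS : V ≤ g ⁻¹ᵁ S') {U : X.Opens} (hU : IsAffineOpen U)
  (hUS : U ≤ f ⁻¹ᵁ S')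

/-- `P = X ×[S] V ⟶ X ×[S] T`. -/
noncomputable def nMap (V : T.Opens) : pullback f (V.ι ≫ g) ⟶ pullback f g :=
  pullback.lift (pullback.fst _ _) (pullback.snd _ _ ≫ V.ι) (by
    rw [Category.assoc]; exact pullback.condition)

theorem ι_comp : V.ι ≫ g = hV.isoSpec.hom ≫ Spec.map (g.appLE S' V hVS) ≫ hS'.fromSpec := by
  rw [hS'.SpecMap_appLE_fromSpec g hV, IsAffineOpen.isoSpec_hom_fromSpec_assoc]

include hS' in
theorem exists_local (t : T) (ht : t ∈ V)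
    (Z : Set ↥(pullback f g)) (hZ : IsClosed Z) (hZt : ∀ z ∈ Z, pullback.snd f g z ≠ t)
    [Algebra Γ(S, S') Γ(X, U)] [Algebra Γ(S, S') Γ(T, V)]
    (hC : algebraMap Γ(S, S') Γ(X, U) = (f.appLE S' U hUS).hom)
    (hR : algebraMap Γ(S, S') Γ(T, V) = (g.appLE S' V hVS).hom) :
    ∃ (q : Spec (CommRingCat.of (Γ(X, U) ⊗[Γ(S, S')] Γ(T, V))) ⟶ pullback f (V.ι ≫ g)),
      q ≫ pullback.fst f (V.ι ≫ g) = Spec.map (CommRingCat.ofHom
        (Algebra.TensorProduct.includeLeft :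
          Γ(X, U) →ₐ[Γ(S, S')] Γ(X, U) ⊗[Γ(S, S')] Γ(T, V)).toRingHom) ≫ hU.fromSpec ∧
      q ≫ pullback.snd f (V.ι ≫ g) = Spec.map (CommRingCat.ofHom
        (Algebra.TensorProduct.includeRight :
          Γ(T, V) →ₐ[Γ(S, S')] Γ(X, U) ⊗[Γ(S, S')] Γ(T, V)).toRingHom) ≫ hV.isoSpec.inv ∧
      (∀ w, pullback.fst f (V.ι ≫ g) w ∈ U → w ∈ Set.range q) ∧
      ∃ (b : Γ(T, V)) (n : ℕ) (c : Fin n → Γ(X, U)) (y : Fin n → Γ(T, V)),
        b ∉ (hV.isoSpec.hom ⟨t, ht⟩ : PrimeSpectrum Γ(T, V)).asIdeal ∧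
        (∀ k, y k ∈ (hV.isoSpec.hom ⟨t, ht⟩ : PrimeSpectrum Γ(T, V)).asIdeal) ∧
        ∀ v, nMap f g V (q v) ∈ Z →
          ((1 : Γ(X, U)) ⊗ₜ[Γ(S, S')] b - ∑ k, c k ⊗ₜ[Γ(S, S')] y k) ∈
            (v : PrimeSpectrum (Γ(X, U) ⊗[Γ(S, S')] Γ(T, V))).asIdeal := by
  obtain ⟨q, hq1, hq2, hq3, hq4⟩ := exists_chart f hS'.fromSpec hU.fromSpec (f.appLE S' U hUS)
    (hS'.SpecMap_appLE_fromSpec f hU hUS).symm (g.appLE S' V hVS) hV.isoSpec (V.ι ≫ g)
    (ι_comp g hS' hV hVS) hC hR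
  refine ⟨q, hq2, hq3, fun w hw ↦ hq4 w (by rwa [hU.range_fromSpec]), ?_⟩
  let Z₁ : Set (PrimeSpectrum (Γ(X, U) ⊗[Γ(S, S')] Γ(T, V))) := (q ≫ nMap f g V) ⁻¹' Z
  have hZ₁ : IsClosed Z₁ := hZ.preimage (q ≫ nMap f g V).continuous
  obtain ⟨b, n, c, y, h1, h2, h3⟩ := exists_elt
    (hV.isoSpec.hom ⟨t, ht⟩ : PrimeSpectrum Γ(T, V)) (PrimeSpectrum.vanishingIdeal Z₁) (by
      intro v hv hvt
      rw [PrimeSpectrum.zeroLocus_vanishingIdeal_eq_closure, hZ₁.closure_eq] at hv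
      refine hZt _ hv ?_
      have h4 : (q ≫ nMap f g V) ≫ pullback.snd f g = Spec.map (CommRingCat.ofHom
          (Algebra.TensorProduct.includeRight :
          Γ(T, V) →ₐ[Γ(S, S')] Γ(X, U) ⊗[Γ(S, S')] Γ(T, V)).toRingHom) ≫
            hV.isoSpec.inv ≫ V.ι := by
        rw [Category.assoc, nMap, pullback.lift_snd, ← Category.assoc, hq3, Category.assoc]
      rw [← Scheme.Hom.comp_apply, h4, Scheme.Hom.comp_apply, Scheme.Hom.comp_apply]
      have h5 : Spec.map (CommRingCat.ofHom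
          (Algebra.TensorProduct.includeRight :
          Γ(T, V) →ₐ[Γ(S, S')] Γ(X, U) ⊗[Γ(S, S')] Γ(T, V)).toRingHom) v =
            hV.isoSpec.hom ⟨t, ht⟩ := hvt
      have h6 : hV.isoSpec.hom ≫ hV.isoSpec.inv ≫ V.ι = V.ι := Iso.hom_inv_id_assoc _ _
      have h7 : (hV.isoSpec.hom ≫ hV.isoSpec.inv ≫ V.ι) ⟨t, ht⟩ = t := by
        rw [h6]
        rfl
      rw [h5]
      exact h7)
  refine ⟨b, n, c, y, h1, h2, fun v hv ↦ ?_⟩
  exact (PrimeSpectrum.mem_vanishingIdeal _ _).mp h3 v hv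

end local_data

theorem main {X S T : Scheme.{u}} (f : X ⟶ S) [QuasiCompact f] (g : T ⟶ S) (t : T)
    (Z : Set ↥(pullback f g)) (hZ : IsClosed Z) (hZt : ∀ z ∈ Z, pullback.snd f g z ≠ t) :
    ∃ (V : T.Opens) (ht : t ∈ V) (T' : Scheme.{u}) (b : T' ⟶ S) (a : (V : Scheme.{u}) ⟶ T')
      (m : pullback f (V.ι ≫ g) ⟶ pullback f b) (Z' : Set ↥(pullback f b)),
      IsAffineOpen V ∧ IsAffine T' ∧ LocallyOfFinitePresentation b ∧ a ≫ b = V.ι ≫ g ∧
      m ≫ pullback.fst f b = pullback.fst f (V.ι ≫ g) ∧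
      m ≫ pullback.snd f b = pullback.snd f (V.ι ≫ g) ≫ a ∧
      IsClosed Z' ∧ (∀ z' ∈ Z', pullback.snd f b z' ≠ a ⟨t, ht⟩) ∧
      ∀ z : ↥(pullback f (V.ι ≫ g)), nMap f g V z ∈ Z → m z ∈ Z' := by
  classical
  have hS'0 : ∃ S' : S.Opens, IsAffineOpen S' ∧ g t ∈ S' := by
    obtain ⟨_, ⟨S', hS', rfl⟩, hgS, -⟩ :=
      S.isBasis_affineOpens.exists_subset_of_mem_open (Set.mem_univ (g t)) isOpen_univ
    exact ⟨S', hS', hgS⟩
  obtain ⟨S', hS', hgS⟩ := hS'0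
  have hV0 : ∃ V : T.Opens, IsAffineOpen V ∧ t ∈ V ∧ V ≤ g ⁻¹ᵁ S' := by
    obtain ⟨_, ⟨V, hV, rfl⟩, ht, hVS⟩ :=
      T.isBasis_affineOpens.exists_subset_of_mem_open (show t ∈ g ⁻¹ᵁ S' from hgS)
        (g ⁻¹ᵁ S').isOpen
    exact ⟨V, hV, ht, hVS⟩
  obtain ⟨V, hV, ht, hVS⟩ := hV0
  have hcpt : IsCompact ((f ⁻¹ᵁ S' : X.Opens) : Set X) :=
    QuasiCompact.isCompact_preimage (f := f) _ S'.2 hS'.isCompact
  obtain ⟨s, hs, hsf, hsU⟩ := X.isBasis_affineOpens.exists_finite_of_isCompact hcpt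
  have hle : ∀ U : s, U.1 ≤ f ⁻¹ᵁ S' := fun U ↦ hsU ▸ le_sSup U.2
  have haff : ∀ U : s, IsAffineOpen U.1 := fun U ↦ hs U.2
  let (U : s) : Algebra Γ(S, S') Γ(X, U.1) := (f.appLE S' U.1 (hle U)).hom.toAlgebra
  let : Algebra Γ(S, S') Γ(T, V) := (g.appLE S' V hVS).hom.toAlgebra
  have hloc := fun U : s ↦ exists_local f g hS' hV hVS (haff U) (hle U) t ht Z hZ hZt rfl rfl
  choose q hq1 hq2 hq3 b n c y hb hy hx using hloc
  have : Finite s := hsf
  cases nonempty_fintype s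
  let K : Type u := Σ U : s, Option (Fin (n U))
  have : Finite K := inferInstance
  let R : Type u := MvPolynomial K Γ(S, S')
  let β : R →ₐ[Γ(S, S')] Γ(T, V) := MvPolynomial.aeval (fun k ↦ k.2.elim (b k.1) (y k.1))
  have hβ0 (U : s) : β (MvPolynomial.X ⟨U, none⟩) = b U := MvPolynomial.aeval_X _ _
  have hβ1 (U : s) (k : Fin (n U)) : β (MvPolynomial.X ⟨U, some k⟩) = y U k :=
    MvPolynomial.aeval_X _ _
  let T' : Scheme.{u} := Spec (CommRingCat.of R)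
  let ρ : Γ(S, S') ⟶ CommRingCat.of R := CommRingCat.ofHom (algebraMap _ R)
  let b' : T' ⟶ S := Spec.map ρ ≫ hS'.fromSpec
  let a : (V : Scheme.{u}) ⟶ T' := hV.isoSpec.hom ≫ Spec.map (CommRingCat.ofHom β.toRingHom)
  have hρβ : ρ ≫ CommRingCat.ofHom β.toRingHom = g.appLE S' V hVS := by
    ext x
    exact β.commutes x
  have hab : a ≫ b' = V.ι ≫ g := by
    rw [ι_comp g hS' hV hVS, ← hρβ, Spec.map_comp]
    simp only [a, b', Category.assoc]
  let m : pullback f (V.ι ≫ g) ⟶ pullback f b' :=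
    pullback.lift (pullback.fst _ _) (pullback.snd _ _ ≫ a) (by
      rw [Category.assoc, hab]; exact pullback.condition)
  let E : Set ↥(pullback f b') := m '' (nMap f g V ⁻¹' Z)
  have hlfp : LocallyOfFinitePresentation b' := by
    have h1 : (algebraMap Γ(S, S') R).FinitePresentation := by
      rw [RingHom.finitePresentation_algebraMap]
      exact inferInstanceAs (Algebra.FinitePresentation Γ(S, S') (MvPolynomial K Γ(S, S')))
    have h2 : LocallyOfFinitePresentation (Spec.map ρ) := HasRingHomProperty.Spec_iff.mpr h1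
    exact inferInstanceAs (LocallyOfFinitePresentation (Spec.map ρ ≫ hS'.fromSpec))
  refine ⟨V, ht, T', b', a, m, closure E, hV, inferInstanceAs (IsAffine (Spec _)), hlfp, hab,
    pullback.lift_fst _ _ _, pullback.lift_snd _ _ _, isClosed_closure, ?_,
    fun z hz ↦ subset_closure ⟨z, hz, rfl⟩⟩
  intro z' hz' hz't
  have h1 : pullback.fst f b' z' ∈ f ⁻¹ᵁ S' := by
    change f (pullback.fst f b' z') ∈ S'
    rw [← Scheme.Hom.comp_apply, pullback.condition, Scheme.Hom.comp_apply, hz't,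
      ← Scheme.Hom.comp_apply, hab]
    exact hgS
  rw [hsU] at h1
  obtain ⟨U', hU's, hU'⟩ := TopologicalSpace.Opens.mem_sSup.mp h1
  let U : s := ⟨U', hU's⟩
  obtain ⟨q', hq'0, hq'1, hq'2, hq'3⟩ := exists_chart f hS'.fromSpec (haff U).fromSpec
    (f.appLE S' U.1 (hle U)) (hS'.SpecMap_appLE_fromSpec f (haff U) (hle U)).symm ρ (Iso.refl T') b'
    (Category.id_comp _).symm rfl rfl
  obtain ⟨v', rfl⟩ := hq'3 z' (by rw [(haff U).range_fromSpec]; exact hU')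
  let r : Γ(X, U.1) ⊗[Γ(S, S')] R →ₐ[Γ(S, S')] Γ(X, U.1) ⊗[Γ(S, S')] Γ(T, V) :=
    Algebra.TensorProduct.map (AlgHom.id _ _) β
  have hqr : q U ≫ m = Spec.map (CommRingCat.ofHom r.toRingHom) ≫ q' := by
    apply pullback.hom_ext
    · rw [Category.assoc, pullback.lift_fst, hq1, Category.assoc, hq'1, ← Spec.map_comp_assoc]
      congr 2
      ext x
      change _ = r (x ⊗ₜ 1)
      simp [r]
    · rw [Category.assoc, pullback.lift_snd, ← Category.assoc, hq2, Category.assoc, Category.assoc,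
        hq'2, ← Spec.map_comp_assoc]
      simp only [a, Iso.inv_hom_id_assoc, Iso.refl_inv]
      rw [← Spec.map_comp]
      erw [Category.comp_id]
      congr 1
  have h2 : v' ∈ closure (q' ⁻¹' E) :=
    q'.isOpenEmbedding.isOpenMap.preimage_closure_subset_closure_preimage hz'
  let x' : Γ(X, U.1) ⊗[Γ(S, S')] R :=
    (1 : Γ(X, U.1)) ⊗ₜ (MvPolynomial.X (⟨U, none⟩ : K) : R) -
      ∑ k, c U k ⊗ₜ (MvPolynomial.X (⟨U, some k⟩ : K) : R)
  have hrx : r x' = (1 : Γ(X, U.1)) ⊗ₜ b U - ∑ k, c U k ⊗ₜ y U k := by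
    simp only [x', r, map_sub, map_sum, Algebra.TensorProduct.map_tmul, hβ0, hβ1, AlgHom.id_apply]
  have h3 : IsClosed {v : PrimeSpectrum (Γ(X, U.1) ⊗[Γ(S, S')] R) | x' ∈ v.asIdeal} := by
    have := PrimeSpectrum.isClosed_zeroLocus ({x'} : Set (Γ(X, U.1) ⊗[Γ(S, S')] R))
    convert this using 1
    ext v
    simp
  have h4 : x' ∈ (v' : PrimeSpectrum (Γ(X, U.1) ⊗[Γ(S, S')] R)).asIdeal := by
    refine closure_minimal ?_ h3 h2
    rintro u ⟨w, hw, hwu⟩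
    have h5 : pullback.fst f (V.ι ≫ g) w ∈ U.1 := by
      have h6 : pullback.fst f b' (m w) = pullback.fst f (V.ι ≫ g) w := by
        rw [← Scheme.Hom.comp_apply, pullback.lift_fst]
      rw [← h6, hwu, ← Scheme.Hom.comp_apply, hq'1, Scheme.Hom.comp_apply]
      have : (haff U).fromSpec ((Spec.map (CommRingCat.ofHom
        (Algebra.TensorProduct.includeLeft : Γ(X, U.1) →ₐ[Γ(S, S')]
          Γ(X, U.1) ⊗[Γ(S, S')] R).toRingHom)) u) ∈ Set.range (haff U).fromSpec := ⟨_, rfl⟩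
      rw [(haff U).range_fromSpec] at this
      exact this
    obtain ⟨v, rfl⟩ := hq3 U w h5
    have h6 := hx U v hw
    have h7 : u = Spec.map (CommRingCat.ofHom r.toRingHom) v := by
      apply q'.isOpenEmbedding.injective
      rw [← hwu, ← Scheme.Hom.comp_apply, ← Scheme.Hom.comp_apply, hqr]
    rw [← hrx] at h6
    rw [h7]
    exact h6
  have h8 : Spec.map (CommRingCat.ofHom (Algebra.TensorProduct.includeRight : R →ₐ[Γ(S, S')]
      Γ(X, U.1) ⊗[Γ(S, S')] R).toRingHom) v' =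
      Spec.map (CommRingCat.ofHom β.toRingHom) (hV.isoSpec.hom ⟨t, ht⟩) := by
    rw [← Scheme.Hom.comp_apply, hq'2] at hz't
    exact hz't
  have h9 (r' : R) : (1 : Γ(X, U.1)) ⊗ₜ[Γ(S, S')] r' ∈
      (v' : PrimeSpectrum (Γ(X, U.1) ⊗[Γ(S, S')] R)).asIdeal ↔
      β r' ∈ (hV.isoSpec.hom ⟨t, ht⟩ : PrimeSpectrum Γ(T, V)).asIdeal := by
    have h10 : (Spec.map (CommRingCat.ofHom (Algebra.TensorProduct.includeRight : R →ₐ[Γ(S, S')]
      Γ(X, U.1) ⊗[Γ(S, S')] R).toRingHom) v' : PrimeSpectrum R).asIdeal =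
      (Spec.map (CommRingCat.ofHom β.toRingHom) (hV.isoSpec.hom ⟨t, ht⟩) :
        PrimeSpectrum R).asIdeal := congrArg PrimeSpectrum.asIdeal h8
    exact (SetLike.ext_iff.mp h10 r')
  apply hb U
  have h11 : (1 : Γ(X, U.1)) ⊗ₜ[Γ(S, S')] (MvPolynomial.X (⟨U, none⟩ : K) : R) ∈
      (v' : PrimeSpectrum (Γ(X, U.1) ⊗[Γ(S, S')] R)).asIdeal := by
    have h12 : (1 : Γ(X, U.1)) ⊗ₜ[Γ(S, S')] (MvPolynomial.X (⟨U, none⟩ : K) : R) =
      x' + ∑ k, c U k ⊗ₜ[Γ(S, S')] (MvPolynomial.X (⟨U, some k⟩ : K) : R) := by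
      simp [x']
    rw [h12]
    refine Ideal.add_mem _ h4 (Ideal.sum_mem _ fun k _ ↦ ?_)
    have h13 : (1 : Γ(X, U.1)) ⊗ₜ[Γ(S, S')] (MvPolynomial.X (⟨U, some k⟩ : K) : R) ∈
      (v' : PrimeSpectrum (Γ(X, U.1) ⊗[Γ(S, S')] R)).asIdeal := by
      rw [h9, hβ1]
      exact hy U k
    have h14 : c U k ⊗ₜ[Γ(S, S')] (MvPolynomial.X (⟨U, some k⟩ : K) : R) =
      (c U k ⊗ₜ[Γ(S, S')] (1 : R)) * ((1 : Γ(X, U.1)) ⊗ₜ[Γ(S, S')]
        (MvPolynomial.X (⟨U, some k⟩ : K) : R)) := by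
      rw [Algebra.TensorProduct.tmul_mul_tmul, mul_one, one_mul]
    rw [h14]
    exact Ideal.mul_mem_left _ _ h13
  have h15 := (h9 _).mp h11
  rwa [hβ0] at h15

end K342.AvoidFibre
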