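import Mathlib.AlgebraicGeometry.Limits
import Mathlib.AlgebraicGeometry.Restrict
import Mathlib.AlgebraicGeometry.Morphisms.QuasiSeparated

/-!
# Affine Zariski coverings of an inverse system of schemes over a cofinite poset
-/

set_option autoImplicit false
universe v u w
open CategoryTheory CategoryTheory.Limits AlgebraicGeometry Opposite

namespace K342.CofiniteCover

section sys

/-- Compatible families of open subschemes of a diagram of schemes. -/
structure Sys {J : Type w} [Category.{v} J] (X : J ⥤ Scheme.{u}) where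
  /-- the index sets -/
  A : J ⥤ Type u
  /-- the open subschemes -/
  U : ∀ l : J, A.obj l → (X.obj l).Opens
  le : ∀ {m l : J} (h : m ⟶ l) (a : A.obj m), U m a ≤ X.map h ⁻¹ᵁ U l (A.map h a)

variable {J : Type w} [Category.{v} J] {X : J ⥤ Scheme.{u}} (s : Sys X)

/-- The disjoint union of the opens. -/
noncomputable abbrev Sys.Yobj (l : J) : Scheme.{u} := ∐ fun a : s.A.obj l ↦ (s.U l a : Scheme.{u})

/-- The inclusion of a component. -/
noncomputable abbrev Sys.inc (l : J) (a : s.A.obj l) : (s.U l a : Scheme.{u}) ⟶ s.Yobj l :=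
  Sigma.ι (fun a : s.A.obj l ↦ (s.U l a : Scheme.{u})) a

theorem Sys.congr {l : J} {a b : s.A.obj l} (hab : a = b) {T : Scheme.{u}} {f g : T ⟶ X.obj l}
    (hfg : f = g) {V : T.Opens} (e : V ≤ f ⁻¹ᵁ s.U l a) (e' : V ≤ g ⁻¹ᵁ s.U l b) :
    f.resLE _ _ e ≫ s.inc l a = g.resLE _ _ e' ≫ s.inc l b := by
  subst hab hfg
  rfl

/-- The transition maps. -/
noncomputable def Sys.Ymap {m l : J} (h : m ⟶ l) : s.Yobj m ⟶ s.Yobj l :=
  Sigma.desc fun a ↦ (X.map h).resLE _ _ (s.le h a) ≫ s.inc l (s.A.map h a)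

@[reassoc]
theorem Sys.inc_Ymap {m l : J} (h : m ⟶ l) (a : s.A.obj m) :
    s.inc m a ≫ s.Ymap h = (X.map h).resLE _ _ (s.le h a) ≫ s.inc l (s.A.map h a) :=
  Sigma.ι_desc _ _

/-- The diagram of disjoint unions. -/
noncomputable def Sys.Y : J ⥤ Scheme.{u} where
  obj := s.Yobj
  map := s.Ymap
  map_id l := by
    refine Sigma.hom_ext _ _ fun a ↦ ?_
    rw [s.inc_Ymap]
    rw [s.congr (show s.A.map (𝟙 l) a = a by simp) (X.map_id l) (V := s.U l a) _ (le_rfl),
      Scheme.Hom.resLE_id]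
    simp
  map_comp {k l m} f g := by
    refine Sigma.hom_ext _ _ fun a ↦ ?_
    rw [s.inc_Ymap, s.inc_Ymap_assoc, s.inc_Ymap, Scheme.Hom.resLE_comp_resLE_assoc]
    exact s.congr (by simp) (by simp) _ _

/-- The projection. -/
noncomputable def Sys.πapp (l : J) : s.Yobj l ⟶ X.obj l := Sigma.desc fun a ↦ (s.U l a).ι

@[reassoc]
theorem Sys.inc_πapp (l : J) (a : s.A.obj l) : s.inc l a ≫ s.πapp l = (s.U l a).ι :=
  Sigma.ι_desc _ _

/-- The projection. -/
noncomputable def Sys.π : s.Y ⟶ X where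
  app l := s.πapp l
  naturality l m f := by
    change s.Ymap f ≫ s.πapp m = s.πapp l ≫ X.map f
    refine Sigma.hom_ext _ _ fun a ↦ ?_
    change s.inc l a ≫ s.Ymap f ≫ s.πapp m = s.inc l a ≫ s.πapp l ≫ X.map f
    rw [s.inc_Ymap_assoc, s.inc_πapp, s.inc_πapp_assoc, Scheme.Hom.resLE_comp_ι]

theorem Sys.inc_π (l : J) (a : s.A.obj l) : s.inc l a ≫ s.π.app l = (s.U l a).ι :=
  Sigma.ι_desc _ _

theorem Sys.isAffine (l : J) [Finite (s.A.obj l)] (h : ∀ a, IsAffineOpen (s.U l a)) :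
    IsAffine (s.Y.obj l) := by
  have : ∀ a, IsAffine (s.U l a : Scheme.{u}) := h
  exact inferInstanceAs (IsAffine (∐ fun a : s.A.obj l ↦ (s.U l a : Scheme.{u})))

theorem Sys.surjective (l : J) (h : ∀ x, ∃ a, x ∈ s.U l a) : Surjective (s.π.app l) := by
  refine ⟨fun x ↦ ?_⟩
  obtain ⟨a, ha⟩ := h x
  refine ⟨s.inc l a (⟨x, ha⟩ : s.U l a), ?_⟩
  have h1 : (s.inc l a ≫ s.π.app l) (⟨x, ha⟩ : s.U l a) = x := by
    rw [s.inc_π]
    rfl
  exact h1

theorem Sys.exists_opens (l : J) : ∃ (ι : Type u) (U : ι → (s.Y.obj l).Opens),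
    Pairwise (fun i j => Disjoint (U i) (U j)) ∧ iSup U = ⊤ ∧
      ∀ i, IsOpenImmersion ((U i).ι ≫ s.π.app l) := by
  refine ⟨s.A.obj l, fun a ↦ (s.inc l a).opensRange, fun a b hab ↦ ?_, ?_, fun a ↦ ?_⟩
  · exact disjoint_opensRange_sigmaι (fun a : s.A.obj l ↦ (s.U l a : Scheme.{u})) a b hab
  · exact Scheme.OpenCover.iSup_opensRange
      (sigmaOpenCover (fun a : s.A.obj l ↦ (s.U l a : Scheme.{u})))
  · have h1 : (s.inc l a).opensRange.ι = (s.inc l a).isoOpensRange.inv ≫ s.inc l a := by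
      rw [Iso.eq_inv_comp]
      exact Scheme.Hom.isoOpensRange_hom_ι _
    change IsOpenImmersion ((s.inc l a).opensRange.ι ≫ s.π.app l)
    rw [h1, Category.assoc, s.inc_π]
    infer_instance

end sys

section comb

variable {Λ : Type v} [PartialOrder Λ] (X : Λᵒᵖ ⥤ Scheme.{u})

/-- The opens of the `n`-th scheme. -/
abbrev O (n : Λ) : Type u := (X.obj (op n)).Opens

/-- The open of `X n` on which the opens given for the smaller indices are defined. -/
noncomputable def W (n : Λ) (b : ∀ ρ : Λ, ρ < n → O X ρ) : O X n :=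
  ⨅ ρ : Set.Iio n, (X.map (homOfLE ρ.2.le).op) ⁻¹ᵁ b ρ.1 ρ.2

theorem isCompact_iInf {T : Type*} [TopologicalSpace T] [CompactSpace T] [QuasiSeparatedSpace T]
    {ι : Type*} [Finite ι] (U : ι → TopologicalSpace.Opens T) (h : ∀ i, IsCompact (U i : Set T)) :
    IsCompact ((⨅ i, U i : TopologicalSpace.Opens T) : Set T) := by
  classical
  cases nonempty_fintype ι
  rw [TopologicalSpace.Opens.coe_iInf]
  have key : ∀ s : Finset ι, IsOpen (⋂ i ∈ s, (U i : Set T)) ∧
      IsCompact (⋂ i ∈ s, (U i : Set T)) := by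
    intro s
    induction s using Finset.induction_on with
    | empty => simpa using isCompact_univ
    | insert a s _ ih =>
      rw [Finset.set_biInter_insert]
      exact ⟨(U a).isOpen.inter ih.1, (h a).inter_of_isOpen ih.2 (U a).isOpen ih.1⟩
  simpa using (key Finset.univ).2

theorem le_W (n : Λ) (b : ∀ ρ : Λ, ρ < n → O X ρ) (ρ : Λ) (h : ρ < n) :
    W X n b ≤ (X.map (homOfLE h.le).op) ⁻¹ᵁ b ρ h :=
  iInf_le (fun ρ : Set.Iio n ↦ (X.map (homOfLE ρ.2.le).op) ⁻¹ᵁ b ρ.1 ρ.2) ⟨ρ, h⟩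

variable (C : ∀ n, O X n → Set (O X n))

/-- Compatible choices of opens below `l`. -/
def A (l : Λ) : Type (max v u) := {a : ∀ n : Λ, n ≤ l → O X n //
  ∀ (n : Λ) (h : n ≤ l), a n h ∈ C n (W X n (fun ρ hρ ↦ a ρ (hρ.le.trans h)))}

variable {X C}

/-- The restriction. -/
def res {l m : Λ} (h : l ≤ m) (a : A X C m) : A X C l :=
  ⟨fun n hn ↦ a.1 n (hn.trans h), fun n hn ↦ a.2 n (hn.trans h)⟩

theorem wf (hΛ : ∀ l : Λ, (Set.Iic l).Finite) : WellFounded (fun a b : Λ ↦ a < b) := by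
  refine Subrelation.wf (r := InvImage (· < ·) fun l : Λ ↦ (Set.Iic l).ncard) ?_
    (InvImage.wf _ wellFounded_lt)
  intro a b hab
  exact Set.ncard_lt_ncard ⟨Set.Iic_subset_Iic.mpr hab.le, fun h ↦
    absurd (h (Set.mem_Iic.mpr le_rfl)) (not_le_of_gt hab)⟩ (hΛ b)

theorem finite_A (hΛ : ∀ l : Λ, (Set.Iic l).Finite) (hC : ∀ n U, (C n U).Finite) (l : Λ) :
    Finite (A X C l) := by
  induction l using (wf hΛ).induction with
  | _ l ih =>
    have h1 : Finite (Set.Iio l) := ((hΛ l).subset fun x hx ↦ le_of_lt hx).to_subtype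
    have h2 : ∀ ρ : Set.Iio l, Finite (A X C ρ.1) := fun ρ ↦ ih ρ.1 ρ.2
    have h3 : ∀ n U, Finite (C n U) := fun n U ↦ (hC n U).to_subtype
    let Φ : A X C l → Σ b : (∀ ρ : Set.Iio l, A X C ρ.1),
        C l (W X l (fun ρ hρ ↦ (b ⟨ρ, hρ⟩).1 ρ le_rfl)) :=
      fun a ↦ ⟨fun ρ ↦ res ρ.2.le a, ⟨a.1 l le_rfl, a.2 l le_rfl⟩⟩
    refine Finite.of_injective Φ fun a a' h ↦ ?_
    have e1 : (Φ a).1 = (Φ a').1 := congrArg Sigma.fst h
    have e2 : ((Φ a).2 : O X l) = ((Φ a').2 : O X l) :=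
      congrArg (fun s : (Σ b : (∀ ρ : Set.Iio l, A X C ρ.1),
        C l (W X l (fun ρ hρ ↦ (b ⟨ρ, hρ⟩).1 ρ le_rfl))) ↦ (s.2 : O X l)) h
    refine Subtype.ext ?_
    funext n hn
    rcases hn.eq_or_lt with rfl | hlt
    · exact e2
    · have := congrFun e1 ⟨n, hlt⟩
      exact congrFun (congrFun (congrArg Subtype.val this) n) le_rfl

theorem exists_mem (hΛ : ∀ l : Λ, (Set.Iic l).Finite) 
    (hqc : ∀ l : Λ, CompactSpace ↥(X.obj (Opposite.op l)))
    (hqs : ∀ l : Λ, QuasiSeparatedSpace ↥(X.obj (Opposite.op l)))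
    (hC : ∀ n U, ∀ V ∈ C n U, IsAffineOpen V)
    (hcov : ∀ n (U : O X n), IsCompact (U : Set (X.obj (op n))) → ∀ x ∈ U, ∃ V ∈ C n U, x ∈ V)
    (l : Λ) (x : X.obj (op l)) :
    ∃ a : A X C l, x ∈ a.1 l le_rfl := by
  classical
  let xn (n : Λ) (h : n ≤ l) : X.obj (op n) := X.map (homOfLE h).op x
  let sel (n : Λ) (U : O X n) (y : X.obj (op n)) : O X n :=
    if h : IsCompact (U : Set (X.obj (op n))) ∧ y ∈ U then (hcov n U h.1 y h.2).choose else ⊥
  have hsel (n : Λ) (U : O X n) (y : X.obj (op n)) (h : IsCompact (U : Set (X.obj (op n))))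
      (hy : y ∈ U) : sel n U y ∈ C n U ∧ y ∈ sel n U y := by
    simp only [sel]
    rw [dif_pos ⟨h, hy⟩]
    exact (hcov n U h y hy).choose_spec
  let a : ∀ n : Λ, n ≤ l → O X n := (wf hΛ).fix (C := fun n ↦ n ≤ l → O X n)
    (fun n ih hn ↦ sel n (W X n (fun ρ hρ ↦ ih ρ hρ (hρ.le.trans hn))) (xn n hn))
  have ha (n : Λ) (hn : n ≤ l) : a n hn =
      sel n (W X n (fun ρ hρ ↦ a ρ (hρ.le.trans hn))) (xn n hn) := by
    simp only [a]
    rw [(wf hΛ).fix_eq]
  have key : ∀ (n : Λ) (hn : n ≤ l), xn n hn ∈ a n hn ∧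
      a n hn ∈ C n (W X n (fun ρ hρ ↦ a ρ (hρ.le.trans hn))) := by
    intro n
    induction n using (wf hΛ).induction with
    | _ n ih =>
      intro hn
      have hcn := hqc n
      have hsn := hqs n
      have h1 : Finite (Set.Iio n) := ((hΛ n).subset fun x hx ↦ le_of_lt hx).to_subtype
      have h2 : IsCompact ((W X n (fun ρ hρ ↦ a ρ (hρ.le.trans hn)) : O X n) :
          Set (X.obj (op n))) := by
        refine isCompact_iInf _ fun ρ ↦ ?_
        have hcρ := hqc ρ.1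
        have hsρ := hqs ρ.1
        have hq : QuasiCompact (X.map (homOfLE ρ.2.le).op) :=
          quasiCompact_of_compactSpace _
        exact QuasiCompact.isCompact_preimage (f := X.map (homOfLE ρ.2.le).op) _
          (a ρ.1 (ρ.2.le.trans hn)).isOpen (hC _ _ _ (ih ρ.1 ρ.2 (ρ.2.le.trans hn)).2).isCompact
      have h3 : xn n hn ∈ W X n (fun ρ hρ ↦ a ρ (hρ.le.trans hn)) := by
        change _ ∈ ((⨅ ρ : Set.Iio n, _ : O X n) : Set (X.obj (op n)))
        rw [TopologicalSpace.Opens.coe_iInf, Set.mem_iInter]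
        intro ρ
        have h4 := (ih ρ.1 ρ.2 (ρ.2.le.trans hn)).1
        change X.map (homOfLE ρ.2.le).op (X.map (homOfLE hn).op x) ∈ a ρ.1 (ρ.2.le.trans hn)
        rw [← Scheme.Hom.comp_apply, ← X.map_comp]
        exact h4
      have h5 := hsel n _ _ h2 h3
      rw [ha n hn]
      exact ⟨h5.2, h5.1⟩
  refine ⟨⟨a, fun n hn ↦ (key n hn).2⟩, ?_⟩
  have h6 := (key l le_rfl).1
  have h7 : xn l le_rfl = x := by
    have : X.map (homOfLE (le_refl l)).op = 𝟙 _ := X.map_id (op l)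
    simp only [xn]
    rw [this]
    rfl
  rwa [h7] at h6

theorem exists_C (n : Λ) (U : O X n) : ∃ s : Set (O X n), s.Finite ∧
    (∀ V ∈ s, IsAffineOpen V ∧ V ≤ U) ∧
    (IsCompact (U : Set (X.obj (op n))) → ∀ x ∈ U, ∃ V ∈ s, x ∈ V) := by
  by_cases hU : IsCompact (U : Set (X.obj (op n)))
  · obtain ⟨s, hs, hsf, hsU⟩ := (X.obj (op n)).isBasis_affineOpens.exists_finite_of_isCompact hU
    refine ⟨s, hsf, fun V hV ↦ ⟨hs hV, hsU ▸ le_sSup hV⟩, fun _ x hx ↦ ?_⟩
    rw [hsU] at hx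
    exact TopologicalSpace.Opens.mem_sSup.mp hx
  · exact ⟨∅, Set.finite_empty, fun V hV ↦ hV.elim, fun h ↦ absurd h hU⟩

theorem main (hΛ : ∀ l : Λ, (Set.Iic l).Finite)
    (hqc : ∀ l : Λ, CompactSpace ↥(X.obj (Opposite.op l)))
    (hqs : ∀ l : Λ, QuasiSeparatedSpace ↥(X.obj (Opposite.op l))) :
    ∃ s : Sys X, ∀ l : Λ, Finite (s.A.obj (op l)) ∧ (∀ a, IsAffineOpen (s.U (op l) a)) ∧
      ∀ x, ∃ a, x ∈ s.U (op l) a := by
  classical
  choose C hC1 hC2 hC3 using fun n ↦ exists_C (X := X) n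
  have hfin : ∀ l, Finite (A X C l) := finite_A hΛ hC1
  let e (l : Λ) : A X C l ≃ ULift.{u} (Fin (Nat.card (A X C l))) :=
    (Finite.equivFin _).trans Equiv.ulift.symm
  let FA : Λᵒᵖ ⥤ Type u :=
    { obj l := ULift.{u} (Fin (Nat.card (A X C l.unop)))
      map f := TypeCat.ofHom fun x ↦ e _ (res (leOfHom f.unop) ((e _).symm x))
      map_id l := by
        refine ConcreteCategory.hom_ext _ _ fun x ↦ ?_
        exact (e _).apply_symm_apply x
      map_comp f g := by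
        refine ConcreteCategory.hom_ext _ _ fun x ↦ ?_
        change e _ _ = e _ (res _ ((e _).symm (e _ (res _ ((e _).symm x)))))
        rw [Equiv.symm_apply_apply]
        rfl }
  let s : Sys X :=
    { A := FA
      U := fun l x ↦ ((e l.unop).symm x).1 l.unop le_rfl
      le := fun {m l} h x ↦ by
        have h1 : (e l.unop).symm (FA.map h x) = res (leOfHom h.unop) ((e m.unop).symm x) := by
          change (e _).symm (e _ _) = _
          rw [Equiv.symm_apply_apply]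
        have h2 : ((e l.unop).symm (FA.map h x)).1 l.unop le_rfl =
            ((e m.unop).symm x).1 l.unop (leOfHom h.unop) := by
          rw [h1]
          rfl
        rw [h2]
        rcases (leOfHom h.unop).eq_or_lt with heq | hlt
        · obtain ⟨m⟩ := m
          obtain ⟨l⟩ := l
          dsimp at heq
          subst heq
          have h3 : h = 𝟙 _ := Subsingleton.elim _ _
          subst h3
          rw [X.map_id]
          exact le_rfl
        · exact (hC2 _ _ _ (((e m.unop).symm x).2 m.unop le_rfl)).2.trans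
            (le_W X m.unop _ l.unop hlt) }
  refine ⟨s, fun l ↦ ⟨inferInstanceAs (Finite (ULift _)), fun a ↦ ?_, fun x ↦ ?_⟩⟩
  · exact (hC2 _ _ _ (((e l).symm a).2 l le_rfl)).1
  · obtain ⟨a, ha⟩ := exists_mem hΛ hqc hqs (fun n U V hV ↦ (hC2 n U V hV).1) hC3 l x
    refine ⟨e l a, ?_⟩
    change x ∈ ((e l).symm (e l a)).1 l le_rfl
    rwa [Equiv.symm_apply_apply]

end comb

end K342.CofiniteCover
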