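import Groth.Agent.Proet.Ind
import Mathlib.RingTheory.FinitePresentation
import Mathlib.RingTheory.RingHom.FinitePresentation
import Mathlib.RingTheory.Nilpotent.Lemmas

/-!
# Finitely presented data over an algebra

For an `A`-algebra `X` the directed preorder `Pres A X` consists of pairs `(E, J)` with `E` a finite subset
of `X` and `J` a finitely generated ideal of `A[E]` of relations holding in `X`; `t.Alg = A[E] / J`.
`Compat f t s` says that the algebra map `f : X → Y` induces `hom f : t.Alg → s.Alg`.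

* `isColimit`: `X` is the colimit of `t.Alg` over any directed family of data which is cofinal.
* `hom_surjective`, `exists_lift_vars`, `exists_locNilp`, `exists_nilp`, `exists_rel`, `exists_integral`:
  improving the induced maps.
-/

set_option autoImplicit false
universe u
open CategoryTheory CategoryTheory.Limits MvPolynomial

namespace K342.FPSys

variable (A : Type u) [CommRing A]

/-- A finite set of elements of `X` with a finitely generated ideal of relations. -/
structure Pres (X : Type u) [CommRing X] [Algebra A X] where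
  /-- the generators -/
  E : Set X
  fin : E.Finite
  /-- the relations -/
  J : Ideal (MvPolynomial E A)
  fg : J.FG
  le : ∀ p ∈ J, aeval (Subtype.val : E → X) p = 0

variable {A} {X Y Z : Type u} [CommRing X] [Algebra A X] [CommRing Y] [Algebra A Y]
  [CommRing Z] [Algebra A Z]

/-- The map on polynomial rings. -/
noncomputable def ren (f : X →ₐ[A] Y) (E : Set X) (F : Set Y) (h : ∀ e ∈ E, f e ∈ F) :
    MvPolynomial E A →ₐ[A] MvPolynomial F A :=
  rename (fun e : E => (⟨f e, h e e.2⟩ : F))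

theorem ren_X (f : X →ₐ[A] Y) (E : Set X) (F : Set Y) (h : ∀ e ∈ E, f e ∈ F) (e : E) :
    ren f E F h (MvPolynomial.X e) = MvPolynomial.X ⟨f e, h e e.2⟩ :=
  rename_X _ _

theorem aeval_ren (f : X →ₐ[A] Y) (E : Set X) (F : Set Y) (h : ∀ e ∈ E, f e ∈ F)
    (p : MvPolynomial E A) :
    aeval (Subtype.val : F → Y) (ren f E F h p) = f (aeval (Subtype.val : E → X) p) := by
  have : (aeval (Subtype.val : F → Y)).comp (ren f E F h) =
      f.comp (aeval (Subtype.val : E → X)) := by
    ext e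
    simp [ren]
  exact congr($this p)

theorem ren_ren (f : X →ₐ[A] Y) (g : Y →ₐ[A] Z) (E : Set X) (F : Set Y) (G : Set Z)
    (h : ∀ e ∈ E, f e ∈ F) (h' : ∀ e ∈ F, g e ∈ G) (p : MvPolynomial E A) :
    ren g F G h' (ren f E F h p) = ren (g.comp f) E G (fun e he => h' _ (h e he)) p := by
  simp only [ren, rename_rename]
  rfl

theorem ren_id (E : Set X) (p : MvPolynomial E A) :
    ren (AlgHom.id A X) E E (fun _ he => he) p = p := by
  simp only [ren]
  exact rename_id_apply p

/-- `f` induces a map on the finitely presented algebras. -/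
structure Compat (f : X →ₐ[A] Y) (t : Pres A X) (s : Pres A Y) : Prop where
  mem : ∀ e ∈ t.E, f e ∈ s.E
  le : ∀ p ∈ t.J, ren f t.E s.E mem p ∈ s.J

theorem Compat.comp {f : X →ₐ[A] Y} {g : Y →ₐ[A] Z} {t : Pres A X} {s : Pres A Y} {r : Pres A Z}
    (h' : Compat g s r) (h : Compat f t s) : Compat (g.comp f) t r :=
  ⟨fun e he => h'.mem _ (h.mem e he), fun p hp => by
    rw [← ren_ren f g t.E s.E r.E h.mem h'.mem]
    exact h'.le _ (h.le p hp)⟩

instance : Preorder (Pres A X) where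
  le t s := Compat (AlgHom.id A X) t s
  le_refl t := ⟨fun _ he => he, fun p hp => by rwa [ren_id]⟩
  le_trans _ _ _ h h' := h'.comp h

theorem le_iff {t s : Pres A X} : t ≤ s ↔ Compat (AlgHom.id A X) t s := Iff.rfl

theorem Compat.mono {f : X →ₐ[A] Y} {t t' : Pres A X} {s s' : Pres A Y} (h : Compat f t s)
    (ht : t' ≤ t) (hs : s ≤ s') : Compat f t' s' :=
  (Compat.comp hs (h.comp ht) :)

/-- The finitely presented algebra. -/
abbrev Pres.Alg (t : Pres A X) : Type u := MvPolynomial t.E A ⧸ t.J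

instance (t : Pres A X) : Finite t.E := t.fin

instance (t : Pres A X) : Algebra.FinitePresentation A t.Alg :=
  Algebra.FinitePresentation.quotient t.fg

/-- The map on algebras. -/
noncomputable def hom (f : X →ₐ[A] Y) {t : Pres A X} {s : Pres A Y} (h : Compat f t s) :
    t.Alg →ₐ[A] s.Alg :=
  Ideal.quotientMapₐ s.J (ren f t.E s.E h.mem) h.le

theorem hom_mk (f : X →ₐ[A] Y) {t : Pres A X} {s : Pres A Y} (h : Compat f t s)
    (p : MvPolynomial t.E A) :
    hom f h (Ideal.Quotient.mk t.J p) = Ideal.Quotient.mk s.J (ren f t.E s.E h.mem p) := rfl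

theorem hom_comp {f : X →ₐ[A] Y} {g : Y →ₐ[A] Z} {t : Pres A X} {s : Pres A Y} {r : Pres A Z}
    (h' : Compat g s r) (h : Compat f t s) :
    (hom g h').comp (hom f h) = hom (g.comp f) (h'.comp h) := by
  refine AlgHom.ext fun x => ?_
  obtain ⟨p, rfl⟩ := Ideal.Quotient.mk_surjective x
  rw [AlgHom.comp_apply, hom_mk, hom_mk, hom_mk, ren_ren]

theorem hom_id {t : Pres A X} (h : Compat (AlgHom.id A X) t t) : hom (AlgHom.id A X) h = AlgHom.id A _ := by
  refine AlgHom.ext fun x => ?_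
  obtain ⟨p, rfl⟩ := Ideal.Quotient.mk_surjective x
  rw [hom_mk]
  have : ren (AlgHom.id A X) t.E t.E h.mem p = p := ren_id _ _
  rw [this]
  rfl

/-- The map to `X`. -/
noncomputable def Pres.ev (t : Pres A X) : t.Alg →ₐ[A] X :=
  Ideal.Quotient.liftₐ t.J (aeval (Subtype.val : t.E → X)) t.le

theorem ev_mk (t : Pres A X) (p : MvPolynomial t.E A) :
    t.ev (Ideal.Quotient.mk t.J p) = aeval (Subtype.val : t.E → X) p := rfl

theorem ev_hom {f : X →ₐ[A] Y} {t : Pres A X} {s : Pres A Y} (h : Compat f t s) :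
    s.ev.comp (hom f h) = f.comp t.ev := by
  refine AlgHom.ext fun x => ?_
  obtain ⟨p, rfl⟩ := Ideal.Quotient.mk_surjective x
  rw [AlgHom.comp_apply, AlgHom.comp_apply, hom_mk, ev_mk, ev_mk, aeval_ren]

theorem ev_hom_apply {f : X →ₐ[A] Y} {t : Pres A X} {s : Pres A Y} (h : Compat f t s) (x : t.Alg) :
    s.ev (hom f h x) = f (t.ev x) := congr($(ev_hom h) x)

/-! ### Constructions -/

/-- Add relations. -/
@[simps] noncomputable def Pres.add (t : Pres A X) (K : Ideal (MvPolynomial t.E A)) (hK : K.FG)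
    (hle : ∀ p ∈ K, aeval (Subtype.val : t.E → X) p = 0) : Pres A X where
  E := t.E
  fin := t.fin
  J := t.J ⊔ K
  fg := Submodule.FG.sup t.fg hK
  le p hp := by
    obtain ⟨a, ha, b, hb, rfl⟩ := Submodule.mem_sup.1 hp
    rw [map_add, t.le a ha, hle b hb, add_zero]

theorem le_add (t : Pres A X) (K : Ideal (MvPolynomial t.E A)) (hK : K.FG)
    (hle : ∀ p ∈ K, aeval (Subtype.val : t.E → X) p = 0) : t ≤ t.add K hK hle :=
  ⟨fun _ he => he, fun p hp => by
    have : ren (AlgHom.id A X) t.E t.E (fun _ he => he) p = p := ren_id _ _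
    change ren (AlgHom.id A X) t.E t.E _ p ∈ t.J ⊔ K
    rw [this]
    exact Ideal.mem_sup_left hp⟩

theorem compat_add {f : X →ₐ[A] Y} {t : Pres A X} {s : Pres A Y} (h : Compat f t s)
    (K : Ideal (MvPolynomial t.E A)) (hK : K.FG)
    (hle : ∀ p ∈ K, aeval (Subtype.val : t.E → X) p = 0)
    (hKs : ∀ p ∈ K, ren f t.E s.E h.mem p ∈ s.J) : Compat f (t.add K hK hle) s := by
  have key : ∀ p ∈ t.J ⊔ K, ren f t.E s.E h.mem p ∈ s.J := by
    intro p hp
    obtain ⟨a, ha, b, hb, rfl⟩ := Submodule.mem_sup.1 hp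
    rw [map_add]
    exact s.J.add_mem (h.le a ha) (hKs b hb)
  exact ⟨h.mem, key⟩

/-- No relations. -/
@[simps] noncomputable def ofSet (E : Set X) (hE : E.Finite) : Pres A X where
  E := E
  fin := hE
  J := ⊥
  fg := Submodule.fg_bot
  le p hp := by
    rw [(Submodule.mem_bot _).1 hp, map_zero]

/-- The union. -/
@[simps] noncomputable def Pres.sup (t s : Pres A X) : Pres A X where
  E := t.E ∪ s.E
  fin := t.fin.union s.fin
  J := t.J.map (ren (AlgHom.id A X) t.E (t.E ∪ s.E) (fun _ he => Or.inl he)).toRingHom ⊔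
    s.J.map (ren (AlgHom.id A X) s.E (t.E ∪ s.E) (fun _ he => Or.inr he)).toRingHom
  fg := Submodule.FG.sup (t.fg.map _) (s.fg.map _)
  le := by
    change _ ≤ RingHom.ker (aeval (Subtype.val : ↥(t.E ∪ s.E) → X))
    rw [sup_le_iff, Ideal.map_le_iff_le_comap, Ideal.map_le_iff_le_comap]
    constructor
    · intro p hp
      change aeval (Subtype.val : ↥(t.E ∪ s.E) → X) (ren _ _ _ _ p) = 0
      rw [aeval_ren, t.le p hp, map_zero]
    · intro p hp
      change aeval (Subtype.val : ↥(t.E ∪ s.E) → X) (ren _ _ _ _ p) = 0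
      rw [aeval_ren, s.le p hp, map_zero]

theorem le_sup_left (t s : Pres A X) : t ≤ t.sup s :=
  ⟨fun _ he => Or.inl he, fun _ hp => Ideal.mem_sup_left (Ideal.mem_map_of_mem _ hp)⟩

theorem le_sup_right (t s : Pres A X) : s ≤ t.sup s :=
  ⟨fun _ he => Or.inr he, fun _ hp => Ideal.mem_sup_right (Ideal.mem_map_of_mem _ hp)⟩

theorem compat_sup {f : X →ₐ[A] Y} {t t' : Pres A X} {s : Pres A Y} (h : Compat f t s)
    (h' : Compat f t' s) : Compat f (t.sup t') s := by
  have hm : ∀ e ∈ t.E ∪ t'.E, f e ∈ s.E := by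
    rintro e (he | he)
    · exact h.mem e he
    · exact h'.mem e he
  refine ⟨hm, ?_⟩
  change _ ≤ Ideal.comap (ren f (t.E ∪ t'.E) s.E hm).toRingHom s.J
  rw [Pres.sup_J, sup_le_iff, Ideal.map_le_iff_le_comap, Ideal.map_le_iff_le_comap]
  constructor
  · intro p hp
    change ren f _ _ _ (ren (AlgHom.id A X) _ _ _ p) ∈ s.J
    rw [ren_ren]
    exact h.le p hp
  · intro p hp
    change ren f _ _ _ (ren (AlgHom.id A X) _ _ _ p) ∈ s.J
    rw [ren_ren]
    exact h'.le p hp

/-- The image. -/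
@[simps] noncomputable def Pres.map (f : X →ₐ[A] Y) (t : Pres A X) : Pres A Y where
  E := f '' t.E
  fin := t.fin.image f
  J := t.J.map (ren f t.E (f '' t.E) (fun _ he => ⟨_, he, rfl⟩)).toRingHom
  fg := t.fg.map _
  le := by
    change _ ≤ RingHom.ker (aeval (Subtype.val : ↥(f '' t.E) → Y))
    rw [Ideal.map_le_iff_le_comap]
    intro p hp
    change aeval (Subtype.val : ↥(f '' t.E) → Y) (ren _ _ _ _ p) = 0
    rw [aeval_ren, t.le p hp, map_zero]

theorem compat_map (f : X →ₐ[A] Y) (t : Pres A X) : Compat f t (t.map f) :=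
  ⟨fun _ he => ⟨_, he, rfl⟩, fun _ hp => Ideal.mem_map_of_mem _ hp⟩

instance : IsDirectedOrder (Pres A X) where
  directed t s := ⟨t.sup s, le_sup_left t s, le_sup_right t s⟩

/-! ### The colimit -/

/-- The morphism in `Under` of an algebra map. -/
noncomputable def uhom {S T : Type u} [CommRing S] [Algebra A S] [CommRing T] [Algebra A T]
    (φ : S →ₐ[A] T) : Under.mk (CommRingCat.ofHom (algebraMap A S)) ⟶
      Under.mk (CommRingCat.ofHom (algebraMap A T)) :=
  Under.homMk (CommRingCat.ofHom φ.toRingHom) (by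
    ext a
    exact φ.commutes a)

theorem uhom_comp {S T U : Type u} [CommRing S] [Algebra A S] [CommRing T] [Algebra A T]
    [CommRing U] [Algebra A U] (φ : S →ₐ[A] T) (ψ : T →ₐ[A] U) :
    uhom φ ≫ uhom ψ = uhom (ψ.comp φ) := rfl

variable (A X) in
/-- The functor of finitely presented algebras. -/
noncomputable def presFunctor : Pres A X ⥤ Under (CommRingCat.of A) where
  obj t := Under.mk (CommRingCat.ofHom (algebraMap A t.Alg))
  map h := uhom (hom (AlgHom.id A X) (leOfHom h))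
  map_id t := by
    rw [hom_id]
    rfl
  map_comp {t s r} h h' := by
    rw [uhom_comp, hom_comp]
    rfl

section System

variable {Γ : Type u} [Preorder Γ] {τ : Γ → Pres A X} (hτ : Monotone τ)

/-- The diagram of a monotone family. -/
noncomputable abbrev diag : Γ ⥤ Under (CommRingCat.of A) := hτ.functor ⋙ presFunctor A X

/-- The cocone. -/
noncomputable def coc : diag hτ ⟶
    (Functor.const Γ).obj (Under.mk (CommRingCat.ofHom (algebraMap A X))) where
  app γ := uhom (τ γ).ev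
  naturality γ γ' h := by
    change uhom (hom (AlgHom.id A X) _) ≫ uhom (τ γ').ev = uhom (τ γ).ev ≫ 𝟙 _
    rw [uhom_comp, ev_hom, Category.comp_id]
    rfl

/-- The natural transformation of a compatible family. -/
noncomputable def trans {f : X →ₐ[A] Y} {σ : Γ → Pres A Y} (hσ : Monotone σ)
    (h : ∀ γ, Compat f (τ γ) (σ γ)) : diag hτ ⟶ diag hσ where
  app γ := uhom (hom f (h γ))
  naturality γ γ' a := by
    change uhom (hom (AlgHom.id A X) _) ≫ uhom (hom f _) =
      uhom (hom f _) ≫ uhom (hom (AlgHom.id A Y) _)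
    rw [uhom_comp, uhom_comp, hom_comp, hom_comp]
    rfl

theorem isColimit [IsDirectedOrder Γ] [Nonempty Γ]
    (hcof : ∀ (γ : Γ) (t : Pres A X), ∃ γ', γ ≤ γ' ∧ t ≤ τ γ') :
    Nonempty (IsColimit (Cocone.mk _ (coc hτ))) := by
  refine Groth.Agent.Proet.Ind.isColimit_under (diag hτ) (Cocone.mk _ (coc hτ)) ?_ ?_
  · intro x
    obtain ⟨γ₀⟩ := ‹Nonempty Γ›
    obtain ⟨γ, -, h⟩ := hcof γ₀ (ofSet {x} (Set.finite_singleton x))
    let y : (τ γ).Alg := Ideal.Quotient.mk (τ γ).J (MvPolynomial.X ⟨x, h.mem x rfl⟩)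
    have hy : (τ γ).ev y = x := by
      rw [ev_mk, aeval_X]
    exact ⟨γ, y, hy⟩
  · intro γ x y hxy
    obtain ⟨p, rfl⟩ := Ideal.Quotient.mk_surjective (I := (τ γ).J) x
    obtain ⟨q, rfl⟩ := Ideal.Quotient.mk_surjective (I := (τ γ).J) y
    have hpq : aeval (Subtype.val : (τ γ).E → X) (p - q) = 0 := by
      rw [map_sub, sub_eq_zero]
      exact hxy
    obtain ⟨γ', h, h'⟩ := hcof γ ((τ γ).add (Ideal.span {p - q}) ⟨{p - q}, by simp⟩ (by
      intro r hr
      obtain ⟨a, rfl⟩ := Ideal.mem_span_singleton'.1 hr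
      rw [map_mul, hpq, mul_zero]))
    refine ⟨γ', homOfLE h, ?_⟩
    change Ideal.Quotient.mk (τ γ').J (ren (AlgHom.id A X) _ _ (hτ h).mem p) =
      Ideal.Quotient.mk (τ γ').J (ren (AlgHom.id A X) _ _ (hτ h).mem q)
    rw [Ideal.Quotient.eq, ← map_sub]
    exact h'.le _ (Ideal.mem_sup_right (Ideal.subset_span rfl))

end System

/-! ### Improving the maps -/

theorem ren_surjective {f : X →ₐ[A] Y} {t : Pres A X} {s : Pres A Y} (h : Compat f t s)
    (hs : ∀ e ∈ s.E, ∃ e' ∈ t.E, f e' = e) : Function.Surjective (ren f t.E s.E h.mem) := by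
  refine rename_surjective _ ?_
  rintro ⟨e, he⟩
  obtain ⟨e', he', rfl⟩ := hs e he
  exact ⟨⟨e', he'⟩, rfl⟩

theorem hom_surjective {f : X →ₐ[A] Y} {t : Pres A X} {s : Pres A Y} (h : Compat f t s)
    (hs : ∀ e ∈ s.E, ∃ e' ∈ t.E, f e' = e) : Function.Surjective (hom f h) := by
  intro x
  obtain ⟨p, rfl⟩ := Ideal.Quotient.mk_surjective x
  obtain ⟨q, rfl⟩ := ren_surjective h hs p
  exact ⟨Ideal.Quotient.mk _ q, rfl⟩

theorem compat_ofSet {f : X →ₐ[A] Y} {E : Set X} (hE : E.Finite) {s : Pres A Y}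
    (h : ∀ e ∈ E, f e ∈ s.E) : Compat f (ofSet E hE) s := by
  have key : ∀ p ∈ (⊥ : Ideal (MvPolynomial E A)), ren f E s.E h p ∈ s.J := by
    intro p hp
    rw [(Submodule.mem_bot _).1 hp, map_zero]
    exact s.J.zero_mem
  exact ⟨h, key⟩

theorem exists_lift_vars {f : X →ₐ[A] Y} (hf : Function.Surjective f) {t : Pres A X}
    {s : Pres A Y} (h : Compat f t s) :
    ∃ t' : Pres A X, t ≤ t' ∧ Compat f t' s ∧ ∀ e ∈ s.E, ∃ e' ∈ t'.E, f e' = e := by
  refine ⟨t.sup (ofSet (Function.surjInv hf '' s.E) (s.fin.image _)), le_sup_left _ _,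
    compat_sup h (compat_ofSet _ ?_), ?_⟩
  · rintro _ ⟨e, he, rfl⟩
    rwa [Function.surjInv_eq hf]
  · intro e he
    exact ⟨_, Or.inr ⟨e, he, rfl⟩, Function.surjInv_eq hf e⟩

/-- The ideal of polynomials which vanish in `s.Alg`. -/
noncomputable def kerI {f : X →ₐ[A] Y} {t : Pres A X} {s : Pres A Y} (h : Compat f t s) :
    Ideal (MvPolynomial t.E A) :=
  RingHom.ker ((Ideal.Quotient.mkₐ A s.J).comp (ren f t.E s.E h.mem)).toRingHom

theorem mem_kerI {f : X →ₐ[A] Y} {t : Pres A X} {s : Pres A Y} (h : Compat f t s)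
    (p : MvPolynomial t.E A) : p ∈ kerI h ↔ ren f t.E s.E h.mem p ∈ s.J :=
  Ideal.Quotient.eq_zero_iff_mem

theorem kerI_fg {f : X →ₐ[A] Y} {t : Pres A X} {s : Pres A Y} (h : Compat f t s)
    (hs : ∀ e ∈ s.E, ∃ e' ∈ t.E, f e' = e) : (kerI h).FG :=
  Algebra.FinitePresentation.ker_fG_of_surjective _
    ((Ideal.Quotient.mk_surjective (I := s.J)).comp (ren_surjective h hs))

theorem kerI_aeval {f : X →ₐ[A] Y} {t : Pres A X} {s : Pres A Y} (h : Compat f t s)
    (p : MvPolynomial t.E A) (hp : p ∈ kerI h) : f (aeval (Subtype.val : t.E → X) p) = 0 := by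
  rw [← aeval_ren f t.E s.E h.mem]
  exact s.le _ ((mem_kerI h p).1 hp)

theorem mk_mem_ker_iff {f : X →ₐ[A] Y} {t : Pres A X} {s : Pres A Y} (h : Compat f t s)
    (p : MvPolynomial t.E A) : hom f h (Ideal.Quotient.mk t.J p) = 0 ↔ p ∈ kerI h := by
  rw [hom_mk, Ideal.Quotient.eq_zero_iff_mem, mem_kerI]

theorem exists_locNilp {f : X →ₐ[A] Y} (hf : ∀ x, f x = 0 → IsNilpotent x) {t : Pres A X}
    {s : Pres A Y} (h : Compat f t s) (hs : ∀ e ∈ s.E, ∃ e' ∈ t.E, f e' = e) :
    ∃ (t' : Pres A X) (h' : Compat f t' s), t ≤ t' ∧ t'.E = t.E ∧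
      ∀ x, hom f h' x = 0 → IsNilpotent x := by
  obtain ⟨G, hG⟩ := kerI_fg h hs
  have h1 : ∀ g ∈ G, ∃ n : ℕ, aeval (Subtype.val : t.E → X) g ^ n = 0 := fun g hg =>
    hf _ (kerI_aeval h g (by rw [← hG]; exact Ideal.subset_span hg))
  choose! n hn using h1
  let K : Ideal (MvPolynomial t.E A) := Ideal.span ((fun g => g ^ (n g + 1)) '' (G : Set _))
  have hK : K.FG := Submodule.fg_span (G.finite_toSet.image _)
  have hle : ∀ p ∈ K, aeval (Subtype.val : t.E → X) p = 0 := by
    change K ≤ RingHom.ker (aeval (Subtype.val : t.E → X))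
    rw [Ideal.span_le]
    rintro _ ⟨g, hg, rfl⟩
    change aeval (Subtype.val : t.E → X) (g ^ (n g + 1)) = 0
    rw [map_pow, pow_succ, hn g hg, zero_mul]
  have hKs : ∀ p ∈ K, ren f t.E s.E h.mem p ∈ s.J := by
    suffices H : K ≤ kerI h from fun p hp => (mem_kerI h p).1 (H hp)
    rw [Ideal.span_le]
    rintro _ ⟨g, hg, rfl⟩
    change g ^ (n g + 1) ∈ kerI h
    rw [pow_succ]
    exact Ideal.mul_mem_left _ _ (by rw [← hG]; exact Ideal.subset_span hg)
  refine ⟨t.add K hK hle, compat_add h K hK hle hKs, le_add _ _ _ _, rfl, ?_⟩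
  intro x hx
  obtain ⟨p, rfl⟩ := Ideal.Quotient.mk_surjective x
  have hp : p ∈ kerI h := (mk_mem_ker_iff (compat_add h K hK hle hKs) p).1 hx
  have H : kerI h ≤ (nilradical (t.add K hK hle).Alg).comap
      (Ideal.Quotient.mk (t.add K hK hle).J) := by
    rw [← hG, Ideal.span_le]
    intro g hg
    change IsNilpotent (Ideal.Quotient.mk (t.add K hK hle).J g)
    refine ⟨n g + 1, ?_⟩
    rw [← map_pow, Ideal.Quotient.eq_zero_iff_mem]
    exact Ideal.mem_sup_right (Ideal.subset_span ⟨g, hg, rfl⟩)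
  exact H hp

theorem exists_nilp {f : X →ₐ[A] Y} (hf : IsNilpotent (RingHom.ker f.toRingHom)) {t : Pres A X}
    {s : Pres A Y} (h : Compat f t s) (hs : ∀ e ∈ s.E, ∃ e' ∈ t.E, f e' = e) :
    ∃ (t' : Pres A X) (h' : Compat f t' s), t ≤ t' ∧ t'.E = t.E ∧
      IsNilpotent (RingHom.ker (hom f h').toRingHom) := by
  obtain ⟨n, hn⟩ := hf
  let K : Ideal (MvPolynomial t.E A) := kerI h ^ (n + 1)
  have hK : K.FG := (kerI_fg h hs).pow
  have hle : ∀ p ∈ K, aeval (Subtype.val : t.E → X) p = 0 := by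
    change K ≤ RingHom.ker (aeval (Subtype.val : t.E → X)).toRingHom
    have h1 : kerI h ≤ (RingHom.ker f.toRingHom).comap
      (aeval (Subtype.val : t.E → X) : MvPolynomial t.E A →ₐ[A] X).toRingHom :=
      fun p hp => kerI_aeval h p hp
    have h2 : K ≤ ((RingHom.ker f.toRingHom) ^ (n + 1)).comap
        (aeval (Subtype.val : t.E → X) : MvPolynomial t.E A →ₐ[A] X).toRingHom :=
      (Ideal.pow_right_mono h1 _).trans (Ideal.le_comap_pow _ _)
    rw [pow_succ, hn, zero_mul] at h2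
    exact h2
  have hKle : K ≤ kerI h := Ideal.pow_le_self (Nat.succ_ne_zero n)
  have hKs : ∀ p ∈ K, ren f t.E s.E h.mem p ∈ s.J := fun p hp => (mem_kerI h p).1 (hKle hp)
  refine ⟨t.add K hK hle, compat_add h K hK hle hKs, le_add _ _ _ _, rfl, n + 1, ?_⟩
  have h3 : RingHom.ker (hom f (compat_add h K hK hle hKs)).toRingHom ≤
      (kerI h).map (Ideal.Quotient.mk (t.add K hK hle).J) := by
    intro x hx
    obtain ⟨p, rfl⟩ := Ideal.Quotient.mk_surjective x
    exact Ideal.mem_map_of_mem _ ((mk_mem_ker_iff (compat_add h K hK hle hKs) p).1 hx)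
  change _ = ⊥
  rw [eq_bot_iff]
  refine (Ideal.pow_right_mono h3 _).trans ?_
  rw [← Ideal.map_pow, Ideal.map_le_iff_le_comap]
  intro p hp
  change Ideal.Quotient.mk (t.add K hK hle).J p = 0
  rw [Ideal.Quotient.eq_zero_iff_mem]
  exact Ideal.mem_sup_right hp

theorem isIntegral_of_gens {t : Pres A X} {S : Type u} [CommRing S] (φ : S →+* t.Alg)
    (hφ : ∀ a, ∃ b, φ b = algebraMap A t.Alg a)
    (hX : ∀ e : t.E, φ.IsIntegralElem (Ideal.Quotient.mk t.J (MvPolynomial.X e))) :
    φ.IsIntegral := by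
  intro x
  obtain ⟨p, rfl⟩ := Ideal.Quotient.mk_surjective x
  induction p using MvPolynomial.induction_on with
  | C a =>
    obtain ⟨b, hb⟩ := hφ a
    have h1 : Ideal.Quotient.mk t.J (C a) = φ b := by rw [hb]; rfl
    rw [h1]
    exact RingHom.isIntegralElem_map φ
  | add p q hp hq =>
    rw [map_add]
    exact RingHom.IsIntegralElem.add φ hp hq
  | mul_X p e hp =>
    rw [map_mul]
    exact RingHom.IsIntegralElem.mul φ hp (hX e)

theorem surjective_of_gens {t : Pres A X}
    (hX : ∀ e : t.E, ∃ a, algebraMap A t.Alg a = Ideal.Quotient.mk t.J (MvPolynomial.X e)) :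
    Function.Surjective (algebraMap A t.Alg) := by
  intro x
  obtain ⟨p, rfl⟩ := Ideal.Quotient.mk_surjective x
  induction p using MvPolynomial.induction_on with
  | C a => exact ⟨a, rfl⟩
  | add p q hp hq =>
    obtain ⟨a, ha⟩ := hp
    obtain ⟨b, hb⟩ := hq
    exact ⟨a + b, by rw [map_add, map_add, ha, hb]⟩
  | mul_X p e hp =>
    obtain ⟨a, ha⟩ := hp
    obtain ⟨b, hb⟩ := hX e
    exact ⟨a * b, by rw [map_mul, map_mul, ha, hb]⟩

theorem exists_rel [Algebra.IsIntegral A X] (t : Pres A X) :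
    ∃ t' : Pres A X, t ≤ t' ∧ t'.E = t.E ∧ Module.Finite A t'.Alg ∧
      (Function.Surjective (algebraMap A X) → Function.Surjective (algebraMap A t'.Alg)) := by
  by_cases hs : Function.Surjective (algebraMap A X)
  · choose a ha using hs
    let r : t.E → MvPolynomial t.E A := fun e => MvPolynomial.X e - C (a e)
    have hle : ∀ p ∈ Ideal.span (Set.range r), aeval (Subtype.val : t.E → X) p = 0 := by
      change Ideal.span (Set.range r) ≤ RingHom.ker (aeval (Subtype.val : t.E → X))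
      rw [Ideal.span_le]
      rintro _ ⟨e, rfl⟩
      change aeval (Subtype.val : t.E → X) (MvPolynomial.X e - C (a e)) = 0
      rw [map_sub, aeval_X, aeval_C, ha, sub_self]
    let t' := t.add (Ideal.span (Set.range r)) (Submodule.fg_span (Set.finite_range r)) hle
    have h1 : Function.Surjective (algebraMap A t'.Alg) := surjective_of_gens fun e => by
      refine ⟨a e, ?_⟩
      change Ideal.Quotient.mk t'.J (C (a e)) = _
      rw [eq_comm, Ideal.Quotient.eq]
      exact Ideal.mem_sup_right (Ideal.subset_span ⟨e, rfl⟩)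
    refine ⟨t', le_add _ _ _ _, rfl, ?_, fun _ => h1⟩
    exact Module.Finite.of_surjective (Algebra.linearMap A t'.Alg) h1
  · have hP : ∀ e : t.E, ∃ P : Polynomial A, P.Monic ∧ Polynomial.aeval (e : X) P = 0 :=
      fun e => Algebra.IsIntegral.isIntegral (R := A) (e : X)
    choose P hP1 hP2 using hP
    let r : t.E → MvPolynomial t.E A := fun e => Polynomial.aeval (MvPolynomial.X e) (P e)
    have hle : ∀ p ∈ Ideal.span (Set.range r), aeval (Subtype.val : t.E → X) p = 0 := by
      change Ideal.span (Set.range r) ≤ RingHom.ker (aeval (Subtype.val : t.E → X))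
      rw [Ideal.span_le]
      rintro _ ⟨e, rfl⟩
      change aeval (Subtype.val : t.E → X) (Polynomial.aeval (MvPolynomial.X e) (P e)) = 0
      rw [← Polynomial.aeval_algHom_apply, aeval_X, hP2]
    let t' := t.add (Ideal.span (Set.range r)) (Submodule.fg_span (Set.finite_range r)) hle
    refine ⟨t', le_add _ _ _ _, rfl, ?_, fun h => absurd h hs⟩
    have h1 : (algebraMap A t'.Alg).IsIntegral :=
      isIntegral_of_gens (algebraMap A t'.Alg) (fun a => ⟨a, rfl⟩) fun e => by
        refine ⟨P e, hP1 e, ?_⟩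
        rw [← Polynomial.aeval_def]
        have h2 := Polynomial.aeval_algHom_apply (Ideal.Quotient.mkₐ A t'.J)
          (MvPolynomial.X e : MvPolynomial t'.E A) (P e)
        refine h2.trans ?_
        change Ideal.Quotient.mk t'.J _ = 0
        rw [Ideal.Quotient.eq_zero_iff_mem]
        exact Ideal.mem_sup_right (Ideal.subset_span ⟨e, rfl⟩)
    have h2 : Algebra.IsIntegral A t'.Alg := ⟨h1⟩
    have h3 : Algebra.FiniteType A t'.Alg := inferInstance
    exact Algebra.IsIntegral.finite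

/-- Finiteness and surjectivity are inherited when the set of generators does not change. -/
theorem surjective_of_le {t t' : Pres A X} (h : t ≤ t') (hE : t'.E = t.E) :
    Function.Surjective (hom (AlgHom.id A X) h) :=
  hom_surjective h fun e he => ⟨e, hE ▸ he, rfl⟩

theorem finite_of_le {t t' : Pres A X} (h : t ≤ t') (hE : t'.E = t.E) [Module.Finite A t.Alg] :
    Module.Finite A t'.Alg :=
  Module.Finite.of_surjective (hom (AlgHom.id A X) h).toLinearMap (surjective_of_le h hE)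

theorem algebraMap_surjective_of_le {t t' : Pres A X} (h : t ≤ t') (hE : t'.E = t.E)
    (hs : Function.Surjective (algebraMap A t.Alg)) : Function.Surjective (algebraMap A t'.Alg) := by
  have h1 : algebraMap A t'.Alg = (hom (AlgHom.id A X) h).toRingHom.comp (algebraMap A t.Alg) := by
    ext a
    exact ((hom (AlgHom.id A X) h).commutes a).symm
  rw [h1]
  exact (surjective_of_le h hE).comp hs

/-- The kernel of `A → t.Alg` is contained in the kernel of `A → X`. -/
theorem ker_algebraMap_le (t : Pres A X) :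
    RingHom.ker (algebraMap A t.Alg) ≤ RingHom.ker (algebraMap A X) := by
  intro a ha
  change algebraMap A X a = 0
  rw [← t.ev.commutes a, (ha : algebraMap A t.Alg a = 0), map_zero]

theorem exists_integral {f : X →ₐ[A] Y} (hf : f.toRingHom.IsIntegral) {t : Pres A X}
    {s : Pres A Y} (h : Compat f t s) :
    ∃ (t' : Pres A X) (s' : Pres A Y) (h' : Compat f t' s'), t ≤ t' ∧ s ≤ s' ∧
      (hom f h').toRingHom.IsIntegral := by
  have hP : ∀ e : s.E, ∃ P : Polynomial X, P.Monic ∧ P.eval₂ f.toRingHom (e : Y) = 0 :=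
    fun e => hf (e : Y)
  choose P hP1 hP2 using hP
  let E' : Set X := ⋃ e : s.E, ((P e).coeffs : Set X)
  have hE' : E'.Finite := Set.finite_iUnion fun e => (P e).coeffs.finite_toSet
  let t' : Pres A X := t.sup (ofSet E' hE')
  let ψ : MvPolynomial t'.E A →ₐ[A] X := aeval (Subtype.val : t'.E → X)
  have hlift : ∀ e : s.E, P e ∈ Polynomial.lifts ψ.toRingHom := by
    intro e
    rw [Polynomial.lifts_iff_coeff_lifts]
    intro n
    by_cases hn : (P e).coeff n = 0
    · rw [hn]
      exact ⟨0, map_zero _⟩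
    · have h1 : (P e).coeff n ∈ t'.E :=
        Or.inr (Set.mem_iUnion.2 ⟨e, Polynomial.coeff_mem_coeffs hn⟩)
      exact ⟨MvPolynomial.X ⟨_, h1⟩, aeval_X _ _⟩
  have hQ : ∀ e : s.E, ∃ Q : Polynomial (MvPolynomial t'.E A), Q.map ψ.toRingHom = P e ∧ Q.Monic := by
    intro e
    obtain ⟨Q, h1, -, h2⟩ := Polynomial.lifts_and_natDegree_eq_and_monic (hlift e) (hP1 e)
    exact ⟨Q, h1, h2⟩
  choose Q hQ1 hQ2 using hQ
  let s₁ : Pres A Y := s.sup (t'.map f)
  have hc : Compat f t' s₁ := (compat_map f t').mono le_rfl (le_sup_right _ _)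
  let r : s.E → MvPolynomial s₁.E A := fun e =>
    (Q e).eval₂ (ren f t'.E s₁.E hc.mem).toRingHom (MvPolynomial.X ⟨e, Or.inl e.2⟩)
  have hle : ∀ p ∈ Ideal.span (Set.range r), aeval (Subtype.val : s₁.E → Y) p = 0 := by
    change Ideal.span (Set.range r) ≤ RingHom.ker (aeval (Subtype.val : s₁.E → Y)).toRingHom
    rw [Ideal.span_le]
    rintro _ ⟨e, rfl⟩
    change (aeval (Subtype.val : s₁.E → Y)).toRingHom (r e) = 0
    have h1 : (aeval (Subtype.val : s₁.E → Y)).toRingHom.comp
        (ren f t'.E s₁.E hc.mem).toRingHom = f.toRingHom.comp ψ.toRingHom :=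
      RingHom.ext fun p => aeval_ren f t'.E s₁.E hc.mem p
    rw [Polynomial.hom_eval₂, h1, ← Polynomial.eval₂_map, hQ1]
    have h2 : (aeval (Subtype.val : s₁.E → Y)).toRingHom
        (MvPolynomial.X ⟨(e : Y), Or.inl e.2⟩ : MvPolynomial s₁.E A) = e := aeval_X _ _
    rw [h2]
    exact hP2 e
  let s' := s₁.add (Ideal.span (Set.range r)) (Submodule.fg_span (Set.finite_range r)) hle
  have hc' : Compat f t' s' := hc.mono le_rfl (le_add _ _ _ _)
  refine ⟨t', s', hc', le_sup_left _ _, (le_sup_left _ _).trans (le_add _ _ _ _), ?_⟩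
  refine isIntegral_of_gens _ (fun a => ⟨algebraMap A _ a, (hom f hc').commutes a⟩) ?_
  rintro ⟨e, he | ⟨b, hb, rfl⟩⟩
  · refine ⟨(Q ⟨e, he⟩).map (Ideal.Quotient.mk t'.J), (hQ2 _).map _, ?_⟩
    rw [Polynomial.eval₂_map]
    have h1 : (hom f hc').toRingHom.comp (Ideal.Quotient.mk t'.J) =
        (Ideal.Quotient.mk s'.J).comp (ren f t'.E s₁.E hc.mem).toRingHom := rfl
    rw [h1, ← Polynomial.hom_eval₂, Ideal.Quotient.eq_zero_iff_mem]
    exact Ideal.mem_sup_right (Ideal.subset_span ⟨⟨e, he⟩, rfl⟩)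
  · have h1 : Ideal.Quotient.mk s'.J (MvPolynomial.X ⟨f b, Or.inr ⟨b, hb, rfl⟩⟩) =
        (hom f hc').toRingHom (Ideal.Quotient.mk t'.J (MvPolynomial.X ⟨b, hb⟩)) := by
      change _ = Ideal.Quotient.mk s'.J (ren f t'.E s'.E hc'.mem (MvPolynomial.X ⟨b, hb⟩))
      rw [ren_X]
    rw [h1]
    exact RingHom.isIntegralElem_map _

end K342.FPSys
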