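import Groth.Agent.Ega4fib.H173.NormalLocus
import Groth.Agent.Flat2G.ProperDim
import Groth.Agent.Flat2D.GeomFib
import Groth.Agent.Models.H242.GorBc
import Groth.Agent.Dual3.K477.NormalGeo
import Groth.Agent.S2070
import Groth.Agent.S1333
import Groth.Agent.S1339
import Groth.Agent.S13624
import Groth.Agent.S4761
import Groth.Prelude.Def_Pi1
import Groth.Prelude.Def_CAlg

/-!
# Loci of the base defined by properties of the geometric fibres

* `geomAt_PNor_of_algClosed`: a scheme over an algebraically closed field which is normal is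
  geometrically normal.
-/

set_option autoImplicit false
universe u
open CategoryTheory CategoryTheory.Limits AlgebraicGeometry
open Groth.Agent Groth.Agent.Ega43.GeomAt Groth.Agent.Ega43.GeomBC Groth.Agent.Ega4fib.H173.NormalPoint
  Groth.Agent.Ega4fib.H173.NormalLocus

namespace K342.GeomFibLoci

open TensorProduct in
theorem geomAtAlg_of_algClosed {k A : Type u} [Field k] [IsAlgClosed k] [CommRing A] [Algebra k A]
    (h : ∀ (p : Ideal A) [p.IsPrime], PNor (Localization.AtPrime p)) (q : Ideal A) :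
    GeomAtAlg (fun R _ => PNor R) k A q := by
  have key := (Groth.Agent.S2070.result (k := k) (A := A)).2 (by
    intro k' _ _ _ _
    have hb : Function.Bijective (algebraMap k k') :=
      IsAlgClosed.algebraMap_bijective_of_isIntegral
    let e : k' ⊗[k] A ≃+* A := by
      exact ((Algebra.TensorProduct.congr (AlgEquiv.ofBijective (Algebra.ofId k k') hb).symm
        (AlgEquiv.refl : A ≃ₐ[k] A)).trans (Algebra.TensorProduct.lid k A)).toRingEquiv
    exact Groth.Agent.S2070.isNormalRing_of_ringEquiv e.symm (fun p _ => h p))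
  have key2 : ∀ (K : Type u) [Field K] [Algebra k K], EGA4.IsNormalRing (A ⊗[k] K) :=
    fun K _ _ => Groth.Agent.S2070.isNormalRing_of_ringEquiv
      (Algebra.TensorProduct.comm k K A).toRingEquiv (fun p _ => key K p)
  intro K _ _ Q _ _
  exact key2 K Q

/-- A normal scheme over an algebraically closed field is geometrically normal. -/
theorem geomAt_PNor_of_algClosed {k : Type u} [Field k] [IsAlgClosed k] {Z : Scheme.{u}}
    (b : Z ⟶ Spec (CommRingCat.of k)) (hZ : Pi1.IsNormalScheme Z) (z : Z) :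
    GeomAt (fun R _ => PNor R) b z := by
  obtain ⟨U, hU, hzU, -⟩ := exists_isAffineOpen_mem_and_subset (X := Z) (x := z) (U := ⊤) trivial
  have h1 : z ∈ Set.range hU.fromSpec.base := by
    rw [hU.range_fromSpec]; exact hzU
  obtain ⟨w, rfl⟩ := h1
  rw [← geomAt_comp_openImmersion isoClosed_PNor hU.fromSpec b w]
  obtain ⟨ψ, hψ⟩ := Spec.map_surjective (hU.fromSpec ≫ b)
  let _ : Algebra k Γ(Z, U) := ψ.hom.toAlgebra
  rw [← hψ]
  change GeomAt (fun R _ => PNor R) (Spec.map (CommRingCat.ofHom (algebraMap k Γ(Z, U)))) w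
  rw [geomAt_Spec_iff isoClosed_PNor]
  refine geomAtAlg_of_algClosed (fun p hp => ?_) _
  refine (stalk_Spec_iff isoClosed_PNor Γ(Z, U) ⟨p, hp⟩).1 ?_
  exact (stalk_iff_of_isOpenImmersion isoClosed_PNor hU.fromSpec ⟨p, hp⟩).1 (hZ _)

/-- Normality of the fibre over a geometric point. -/
theorem isNormalScheme_iff {X Y Z : Scheme.{u}} (f : X ⟶ Y) {k : Type u} [Field k] [IsAlgClosed k]
    {σ : Spec (CommRingCat.of k) ⟶ Y} {a : Z ⟶ X} {b : Z ⟶ Spec (CommRingCat.of k)}
    (h : IsPullback a b f σ) :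
    Pi1.IsNormalScheme Z ↔ ∀ x : X, f x = σ (IsLocalRing.closedPoint k) →
      GeomAt (fun R _ => PNor R) f x := by
  constructor
  · intro hZ x hx
    obtain ⟨z, hz, -⟩ := Scheme.exists_preimage_of_isPullback h x
      (IsLocalRing.closedPoint k) hx
    rw [← hz]
    exact (geomAt_iff_of_isPullback flatDesc_PNor h z).1 (geomAt_PNor_of_algClosed b hZ z)
  · intro H z
    refine H (a z) ?_ k Z a b σ h z rfl
    rw [← Scheme.Hom.comp_apply, h.w, Scheme.Hom.comp_apply]
    congr 1
    exact Subsingleton.elim (α := PrimeSpectrum k) _ _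

/-- The square to the fibre over the point below a geometric point. -/
theorem exists_isPullback_fiber {X Y Z : Scheme.{u}} (f : X ⟶ Y) {k : Type u} [Field k]
    {σ : Spec (CommRingCat.of k) ⟶ Y} {a : Z ⟶ X} {b : Z ⟶ Spec (CommRingCat.of k)}
    (h : IsPullback a b f σ) :
    ∃ (φ : Y.residueField (σ (IsLocalRing.closedPoint k)) ⟶ CommRingCat.of k)
      (a' : Z ⟶ f.fiber (σ (IsLocalRing.closedPoint k))),
      IsPullback a' b (f.fiberToSpecResidueField (σ (IsLocalRing.closedPoint k))) (Spec.map φ) := by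
  have h1 := Scheme.descResidueField_stalkClosedPointTo_fromSpecResidueField k Y σ
  have h2 : IsPullback a b f
      (Spec.map (Scheme.descResidueField (Scheme.stalkClosedPointTo σ)) ≫
        Y.fromSpecResidueField (σ (IsLocalRing.closedPoint k))) := by
    rw [h1]; exact h
  have h3 : IsPullback (f.fiberι (σ (IsLocalRing.closedPoint k)))
    (f.fiberToSpecResidueField (σ (IsLocalRing.closedPoint k))) f
      (Y.fromSpecResidueField (σ (IsLocalRing.closedPoint k))) :=
    IsPullback.of_hasPullback _ _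
  refine ⟨Scheme.descResidueField (Scheme.stalkClosedPointTo σ),
    h3.lift a (b ≫ Spec.map (Scheme.descResidueField (Scheme.stalkClosedPointTo σ)))
      (by rw [h2.w, Category.assoc]), ?_⟩
  refine IsPullback.of_right (h₁₂ := f.fiberι _) (h₂₂ := Y.fromSpecResidueField _) (v₁₃ := f) ?_
    (h3.lift_snd _ _ _) h3
  rw [h3.lift_fst]
  exact h2

/-- Gorensteinness of the fibre over a geometric point. -/
theorem gorenstein_iff {X Y Z : Scheme.{u}} (f : X ⟶ Y) [LocallyOfFiniteType f]
    {k : Type u} [Field k]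
    {σ : Spec (CommRingCat.of k) ⟶ Y} {a : Z ⟶ X} {b : Z ⟶ Spec (CommRingCat.of k)}
    (h : IsPullback a b f σ) :
    (∀ z : Z, LocCoh.IsGorensteinLocalRing (Z.presheaf.stalk z)) ↔
      ∀ x : ↥(f.fiber (σ (IsLocalRing.closedPoint k))), LocCoh.IsGorensteinLocalRing
        ((f.fiber (σ (IsLocalRing.closedPoint k))).presheaf.stalk x) := by
  obtain ⟨φ, a', h'⟩ := exists_isPullback_fiber f h
  have hlft : LocallyOfFiniteType (f.fiberToSpecResidueField (σ (IsLocalRing.closedPoint k))) :=
    MorphismProperty.pullback_snd (P := @LocallyOfFiniteType) _ _ inferInstance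
  have h1 : ∀ z : Z, LocCoh.IsGorensteinLocalRing (Z.presheaf.stalk z) ↔
      LocCoh.IsGorensteinLocalRing
        ((f.fiber (σ (IsLocalRing.closedPoint k))).presheaf.stalk (a' z)) := fun z =>
    Groth.Agent.Models.H242.GorBc.gor_stalk_iff_of_isPullback
      (Field.toIsField (Y.residueField (σ (IsLocalRing.closedPoint k)))) (Field.toIsField k) h' z
  constructor
  · intro H x
    obtain ⟨z, hz, -⟩ := Scheme.exists_preimage_of_isPullback h' x (IsLocalRing.closedPoint k)
      (Subsingleton.elim (α := PrimeSpectrum (Y.residueField (σ (IsLocalRing.closedPoint k)))) _ _)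
    rw [← hz]
    exact (h1 z).1 (H z)
  · intro H z
    exact (h1 z).2 (H _)

theorem dim_eq {X Y Z : Scheme.{u}} (f : X ⟶ Y) [LocallyOfFiniteType f]
    {k : Type u} [Field k]
    {σ : Spec (CommRingCat.of k) ⟶ Y} {a : Z ⟶ X} {b : Z ⟶ Spec (CommRingCat.of k)}
    (h : IsPullback a b f σ) :
    topologicalKrullDim Z = topologicalKrullDim (f.fiber (σ (IsLocalRing.closedPoint k))) :=
  Groth.Agent.Flat2G.ProperDim.topologicalKrullDim_field_point f (K := CommRingCat.of k)
    (Field.toIsField k) b a σ h _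

theorem card_eq_one_iff {X : Type*} [TopologicalSpace X] :
    ENat.card (ConnectedComponents X) = 1 ↔ ConnectedSpace X := by
  have h1 : ENat.card (ConnectedComponents X) = 1 ↔
      ENat.card (ConnectedComponents X) ≤ 1 ∧ ENat.card (ConnectedComponents X) ≠ 0 := by
    constructor
    · intro h
      rw [h]
      simp
    · rintro ⟨h2, h3⟩
      exact le_antisymm h2 (Order.one_le_iff_ne_zero.2 h3)
  rw [h1, ENat.card_le_one_iff_subsingleton, ne_eq, ENat.card_eq_zero_iff_empty, not_isEmpty_iff]
  constructor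
  · rintro ⟨h2, ⟨c⟩⟩
    obtain ⟨x, -⟩ := ConnectedComponents.surjective_coe c
    have h3 : PreconnectedSpace X := by
      rw [preconnectedSpace_iff_connectedComponent]
      intro x
      rw [Set.eq_univ_iff_forall]
      intro y
      have h1 : (ConnectedComponents.mk x) = ConnectedComponents.mk y := Subsingleton.elim _ _
      rw [ConnectedComponents.coe_eq_coe] at h1
      rw [h1]
      exact mem_connectedComponent
    exact { h3 with toNonempty := ⟨x⟩ }
  · intro h
    exact ⟨inferInstance, ⟨ConnectedComponents.mk (Classical.arbitrary X)⟩⟩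

/-- An integral normal Gorenstein scheme of dimension `n`. -/
def Good (n : WithBot ℕ∞) (Z : Scheme.{u}) : Prop :=
  IsIntegral Z ∧ Pi1.IsNormalScheme Z ∧ topologicalKrullDim ↥Z = n ∧
    ∀ x : ↥Z, LocCoh.IsGorensteinLocalRing (Z.presheaf.stalk x)

/-- The locus of points over which the geometric fibres are good. -/
def locus (n : WithBot ℕ∞) {X Y : Scheme.{u}} (f : X ⟶ Y) : Set Y :=
  {y | MoreMor.nGeomConnComp f y = 1} ∩ {y | topologicalKrullDim (f.fiber y) = n} ∩
    {y | ∀ x : X, f x = y → GeomAt (fun R _ => PNor R) f x} ∩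
    {y | ∀ x : ↥(f.fiber y), LocCoh.IsGorensteinLocalRing ((f.fiber y).presheaf.stalk x)}

theorem good_iff (n : WithBot ℕ∞) {X Y Z : Scheme.{u}} (f : X ⟶ Y) [LocallyOfFiniteType f]
    {k : Type u} [Field k] [IsAlgClosed k]
    {σ : Spec (CommRingCat.of k) ⟶ Y} {a : Z ⟶ X} {b : Z ⟶ Spec (CommRingCat.of k)}
    (h : IsPullback a b f σ) :
    Good n Z ↔ σ (IsLocalRing.closedPoint k) ∈ locus n f := by
  have h1 := Groth.Agent.Flat2D.GeomFib.nGeomConnComp_eq f _ _ _ h
  have h2 := isNormalScheme_iff f h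
  have h3 := gorenstein_iff f h
  have h4 := dim_eq f h
  have hb : LocallyOfFiniteType b := MorphismProperty.of_isPullback (P := @LocallyOfFiniteType) h inferInstance
  have hZ : IsLocallyNoetherian Z := LocallyOfFiniteType.isLocallyNoetherian b
  simp only [locus, Set.mem_inter_iff, Set.mem_ofPred_eq]
  rw [← h1, ← h2, ← h3, ← h4, card_eq_one_iff]
  constructor
  · rintro ⟨g1, g2, g3, g4⟩
    exact ⟨⟨⟨inferInstance, g3⟩, g2⟩, g4⟩
  · rintro ⟨⟨⟨g1, g3⟩, g2⟩, g4⟩
    exact ⟨Groth.Agent.K477.NormalGeo.isIntegral g2, g2, g3, g4⟩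

theorem isConstructible_locus (n : WithBot ℕ∞) {X Y : Scheme.{u}} [IsNoetherian Y] (f : X ⟶ Y)
    [IsProper f] [Flat f] [LocallyOfFinitePresentation f] :
    Topology.IsConstructible (locus n f) := by
  have hX₀ : IsLocallyNoetherian X := LocallyOfFiniteType.isLocallyNoetherian f
  have hXc : CompactSpace X := QuasiCompact.compactSpace_of_compactSpace f
  have hX : IsNoetherian X := {}
  have h1 := (Groth.Agent.S1339.result f 1).isConstructible
  have h2 := (Groth.Agent.S1333.result f n).isConstructible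
  have h3 : Topology.IsConstructible
      {y : Y | ∀ x : X, f x = y → GeomAt (fun R _ => PNor R) f x} := by
    have h5 := (isLocallyConstructible_geomNormal f).isConstructible.compl
    have h6 := (f.isLocallyConstructible_image h5.isLocallyConstructible).isConstructible.compl
    convert h6 using 1
    ext y
    simp only [Set.mem_ofPred_eq, Set.mem_compl_iff, Set.mem_image, not_exists, not_and]
    exact forall_congr' fun x => not_imp_not.symm
  have h4 := IsRetrocompact.isConstructible (Groth.Agent.S13624.result X Y f)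
    (fun _ _ _ => TopologicalSpace.NoetherianSpace.isCompact _)
  exact ((h1.inter h2).inter h3).inter h4

/-- If all geometric fibres over the limit are good, so are those over a stage. -/
theorem exists_good (n : WithBot ℕ∞) {I : Type u} [SmallCategory I] [IsCofiltered I]
    (D : I ⥤ Scheme.{u}) (c : Cone D) (hc : IsLimit c)
    [∀ (i j : I) (a : i ⟶ j), IsAffineHom (D.map a)] [∀ i : I, AlgebraicGeometry.IsNoetherian (D.obj i)]
    (i₀ : I) {X₀ : Scheme.{u}} (f₀ : X₀ ⟶ D.obj i₀) [IsProper f₀] [Flat f₀]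
    [LocallyOfFinitePresentation f₀]
    {X : Scheme.{u}} (f : X ⟶ c.pt) (q : X ⟶ X₀) (hX : IsPullback q f f₀ (c.π.app i₀))
    (hgood : ∀ (Ω : Type u) [Field Ω] [IsAlgClosed Ω] (t : Spec (CommRingCat.of Ω) ⟶ c.pt),
      Good n (pullback f t)) :
    ∃ (i : I) (a : i ⟶ i₀), ∀ {Z : Scheme.{u}} (Ω : Type u) [Field Ω] [IsAlgClosed Ω]
      (t : Spec (CommRingCat.of Ω) ⟶ D.obj i) (a' : Z ⟶ X₀) (b : Z ⟶ Spec (CommRingCat.of Ω)),
      IsPullback a' b f₀ (t ≫ D.map a) → Good n Z := by
  let Z : Set (D.obj i₀) := (locus n f₀)ᶜ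
  have hZ : Topology.IsConstructible Z := (isConstructible_locus n f₀).compl
  have hemp : (⇑(c.π.app i₀) ⁻¹' Z : Set c.pt) = ∅ := by
    rw [Set.eq_empty_iff_forall_notMem]
    intro s hs
    refine hs ?_
    let Ω := AlgebraicClosure (c.pt.residueField s)
    let t : Spec (CommRingCat.of Ω) ⟶ c.pt :=
      Spec.map (CommRingCat.ofHom (algebraMap (c.pt.residueField s) Ω)) ≫ c.pt.fromSpecResidueField s
    have h1 := hgood Ω t
    have h2 : IsPullback (pullback.fst f t ≫ q) (pullback.snd f t) f₀ (t ≫ c.π.app i₀) :=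
      (IsPullback.of_hasPullback f t).paste_horiz hX
    have h3 := (good_iff n f₀ h2).1 h1
    have h4 : (t ≫ c.π.app i₀) (IsLocalRing.closedPoint Ω) = c.π.app i₀ s := by
      rw [Scheme.Hom.comp_apply]
      congr 1
      simp only [t, Scheme.Hom.comp_apply]
      exact Scheme.fromSpecResidueField_apply _ _
    rw [h4] at h3
    exact h3
  obtain ⟨j, φ, hj⟩ := (Groth.Agent.S4761.result D c hc i₀ Z hZ).1 (by rw [hemp]; exact isOpen_empty)
  obtain ⟨k, ψ, hk⟩ := exists_map_preimage_le_map_preimage D c hc (i := j) (U := ⟨_, hj⟩) (V := ⊥)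
    (TopologicalSpace.NoetherianSpace.isCompact _) (by
      intro s hs
      have : s ∈ (⇑(c.π.app i₀) ⁻¹' Z : Set c.pt) := by
        rw [← c.w φ]
        exact hs
      rw [hemp] at this
      exact this.elim)
  refine ⟨k, ψ ≫ φ, ?_⟩
  intro W Ω _ _ t a' b hW
  rw [good_iff n f₀ hW]
  by_contra hcon
  have h1 : D.map ψ (t (IsLocalRing.closedPoint Ω)) ∈ (⟨_, hj⟩ : (D.obj j).Opens) := by
    change D.map φ _ ∈ Z
    rw [Scheme.Hom.comp_apply, D.map_comp, Scheme.Hom.comp_apply] at hcon
    exact hcon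
  exact hk h1

end K342.GeomFibLoci
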