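/-
The relative generating locus (see `RelGen`) over a cofiltered limit: if it is everything in the
limit, it is everything at a stage.
-/
import Groth.Agent.Lim.K342.RelGen
import Groth.Agent.Flat2H.AmpleLimit

set_option autoImplicit false

universe u

open CategoryTheory Limits AlgebraicGeometry TopologicalSpace Opposite
open Groth.Agent.Fdesc.LocGen Groth.Agent.Flat2H.FamExt Groth.Agent.Flat2H.LimitSections
open K342.RelGen

namespace K342.RelGenLim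

section Fam

variable {X Z : Scheme.{u}} {ι : Type*} {L : Z.Modules} (O : Z.Opens) (W : ι → Z.Opens)
  (e : ∀ k, Γ(L, W k)) (g : ∀ k l, Γ(Z, W k ⊓ W l))

/-- Coefficients of a section of the pullback. -/
theorem exists_coeff (hWO : ∀ k, W k ≤ O) (he : ∀ k, IsGen (e k))
    (hg : ∀ k l, res L inf_le_left (e k) = g k l • res L inf_le_right (e l))
    (p : X ⟶ Z) (s : Γ((Scheme.Modules.pullback p).obj L, p ⁻¹ᵁ O)) :
    ∃ b : ∀ k, Γ(X, p ⁻¹ᵁ W k),
      IsFam (fun k ↦ p ⁻¹ᵁ W k) (fun k l ↦ p.app (W k ⊓ W l) (g k l)) b ∧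
      ∀ k, res _ (p.preimage_mono (hWO k)) s = b k • pullSec p (e k) := by
  choose b hb using fun k => ((he k).pullSec p).exists_eq (res _ (p.preimage_mono (hWO k)) s)
  refine ⟨b, ?_, hb⟩
  intro k l
  have h1 := congrArg (res _ (inf_le_left : p ⁻¹ᵁ W k ⊓ p ⁻¹ᵁ W l ≤ p ⁻¹ᵁ W k)) (hb k)
  have h2 := congrArg (res _ (inf_le_right : p ⁻¹ᵁ W k ⊓ p ⁻¹ᵁ W l ≤ p ⁻¹ᵁ W l)) (hb l)
  have h3 := congrArg (pullSec p) (hg k l)
  rw [pullSec_smul, ← res_pullSec, ← res_pullSec] at h3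
  rw [res_res, res_smul] at h1 h2
  have h4 : ∀ (c : Γ(X, p ⁻¹ᵁ W k ⊓ p ⁻¹ᵁ W l)), c = p.app (W k ⊓ W l) (g k l) →
      res _ (inf_le_left : p ⁻¹ᵁ W k ⊓ p ⁻¹ᵁ W l ≤ p ⁻¹ᵁ W k) (pullSec p (e k)) =
        c • res _ inf_le_right (pullSec p (e l)) := by
    rintro _ rfl
    exact h3
  rw [h4 _ rfl, smul_smul] at h1
  exact (((he l).pullSec p).res inf_le_right).ext (h1.symm.trans h2)

/-- Sections of the pullback from coefficients. -/
theorem exists_section (hWO : ∀ k, W k ≤ O) (hc : O ≤ ⨆ k, W k)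
    (hg : ∀ k l, res L inf_le_left (e k) = g k l • res L inf_le_right (e l))
    (p : X ⟶ Z) (b : ∀ k, Γ(X, p ⁻¹ᵁ W k))
    (hb : IsFam (fun k ↦ p ⁻¹ᵁ W k) (fun k l ↦ p.app (W k ⊓ W l) (g k l)) b) :
    ∃ s : Γ((Scheme.Modules.pullback p).obj L, p ⁻¹ᵁ O),
      ∀ k, res _ (p.preimage_mono (hWO k)) s = b k • pullSec p (e k) := by
  refine res_glue _ (fun k => p ⁻¹ᵁ W k) (fun k => p.preimage_mono (hWO k)) ?_
    (fun k => b k • pullSec p (e k)) ?_
  · intro x hx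
    obtain ⟨k, hk⟩ := Opens.mem_iSup.1 (hc hx)
    exact Opens.mem_iSup.2 ⟨k, hk⟩
  · intro k l
    have h3 := congrArg (pullSec p) (hg k l)
    rw [pullSec_smul, ← res_pullSec, ← res_pullSec] at h3
    have h4 : ∀ (c : Γ(X, p ⁻¹ᵁ W k ⊓ p ⁻¹ᵁ W l)), c = p.app (W k ⊓ W l) (g k l) →
        res _ (inf_le_left : p ⁻¹ᵁ W k ⊓ p ⁻¹ᵁ W l ≤ p ⁻¹ᵁ W k) (pullSec p (e k)) =
          c • res _ inf_le_right (pullSec p (e l)) := by
      rintro _ rfl
      exact h3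
    rw [res_smul, res_smul, h4 _ rfl, smul_smul]
    exact congrArg (· • res _ inf_le_right (pullSec p (e l))) (hb k l)

end Fam

theorem mem_basicOpen_of_isGen {X : Scheme.{u}} {L : X.Modules} {U W : X.Opens} {e m : Γ(L, W)}
    (he : IsGen e) {b : Γ(X, W)} (h : m = b • e) (hU : U ≤ W) (hm : IsGen (res L hU m)) :
    U ≤ X.basicOpen b := by
  rw [h, res_smul] at hm
  exact le_basicOpen_of_isUnit _ _ ((he.res hU).isUnit_of_smul hm)

theorem isGen_basicOpen {X : Scheme.{u}} {L : X.Modules} {W : X.Opens} {e m : Γ(L, W)}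
    (he : IsGen e) {b : Γ(X, W)} (h : m = b • e) : IsGen (res L (X.basicOpen_le b) m) := by
  rw [h, res_smul]
  exact (he.res _).unit_smul (isUnit_res_basicOpen b _ le_rfl)

variable {I : Type u} [Category.{u} I] [IsCofiltered I] {D E : I ⥤ Scheme.{u}} {c : Cone D}
  {d : Cone E} (hc : IsLimit c) (hd : IsLimit d) (φ : D ⟶ E) (f : c.pt ⟶ d.pt)
  (hf : ∀ i, f ≫ d.π.app i = c.π.app i ≫ φ.app i)
  [∀ {i j} (f : i ⟶ j), IsAffineHom (D.map f)] [∀ {i j} (f : i ⟶ j), IsAffineHom (E.map f)]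
  [∀ i, CompactSpace (D.obj i)] [∀ i, QuasiSeparatedSpace (D.obj i)]
  [∀ i, CompactSpace (E.obj i)] [∀ i, QuasiSeparatedSpace (E.obj i)]

include hc hf in
/-- One point, over a compact open of the base which is defined at the same stage. -/
theorem exists_mem_relLocus_aux {i : I} {L : (D.obj i).Modules} (hL : PicF.IsInvertible L)
    {x : c.pt} {V : (E.obj i).Opens} (hV : IsCompact (V : Set (E.obj i)))
    (s : Γ((Scheme.Modules.pullback (c.π.app i)).obj L, f ⁻¹ᵁ (d.π.app i ⁻¹ᵁ V)))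
    {U : c.pt.Opens} (hU : U ≤ f ⁻¹ᵁ (d.π.app i ⁻¹ᵁ V)) (hs : IsGen (res _ hU s)) (hx : x ∈ U) :
    ∃ (j : I) (a : j ⟶ i), c.π.app j x ∈ relLocus (φ.app j) ((Scheme.Modules.pullback (D.map a)).obj L) := by
  have hVc : IsCompact ((φ.app i ⁻¹ᵁ V : (D.obj i).Opens) : Set (D.obj i)) :=
    QuasiCompact.isCompact_preimage _ V.2 hV
  obtain ⟨n, W₀, g₀, hWa, hW⟩ := Groth.Agent.Flat2H.FamDict.exists_trivs hL (fun U ↦ IsAffineOpen U) (by
    intro U x hx
    obtain ⟨_, ⟨V, hV, rfl⟩, hxV, hVU⟩ := (D.obj i).isBasis_affineOpens.exists_subset_of_mem_open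
      (show x ∈ (U : Set (D.obj i)) from hx) U.2
    exact ⟨V, hxV, hVU, hV⟩)
  obtain ⟨hW0, e₀, he₀, hg₀⟩ := hW
  let O : (D.obj i).Opens := φ.app i ⁻¹ᵁ V
  let W : Fin n → (D.obj i).Opens := fun k => W₀ k ⊓ O
  have hWO : ∀ k, W k ≤ O := fun k => inf_le_right
  have hWc : ∀ k, IsCompact (W k : Set (D.obj i)) := fun k =>
    QuasiSeparatedSpace.inter_isCompact _ _ (W₀ k).2 (hWa k).isCompact O.2 hVc
  let e : ∀ k, Γ(L, W k) := fun k => res L inf_le_left (e₀ k)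
  have he : ∀ k, IsGen (e k) := fun k => (he₀ k).res _
  let g : ∀ k l, Γ(D.obj i, W k ⊓ W l) := fun k l =>
    ores (inf_le_inf inf_le_left inf_le_left) (g₀ k l)
  have hg : ∀ k l, res L inf_le_left (e k) = g k l • res L inf_le_right (e l) := by
    intro k l
    have h1 := congrArg (res L (inf_le_inf inf_le_left inf_le_left : W k ⊓ W l ≤ W₀ k ⊓ W₀ l)) (hg₀ k l)
    simp only [res_res, res_smul] at h1
    simp only [e, g, res_res]
    exact h1
  have hcov : O ≤ ⨆ k, W k := by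
    intro y hy
    obtain ⟨k, hk⟩ := hW0 y
    exact Opens.mem_iSup.2 ⟨k, hk, hy⟩
  have hO : c.π.app i ⁻¹ᵁ O = f ⁻¹ᵁ (d.π.app i ⁻¹ᵁ V) := by
    rw [← Scheme.Hom.comp_preimage, ← Scheme.Hom.comp_preimage, hf]
  obtain ⟨b, hb, hbs⟩ := exists_coeff O W e g hWO he hg (c.π.app i) (res _ hO.le s)
  obtain ⟨j, a, b', hb', hbb'⟩ := Groth.Agent.Flat2H.AmpleLimit.exists_family hc W hWc g b hb
  obtain ⟨s', hs'⟩ := exists_section O W e g hWO hcov hg (D.map a) b' hb'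
  refine ⟨j, a, ?_⟩
  -- the point
  have hxO : c.π.app i x ∈ O := hO.ge (hU hx)
  obtain ⟨k, hk⟩ := Opens.mem_iSup.1 (hcov hxO)
  have hxb : x ∈ c.pt.basicOpen (b k) := by
    refine mem_basicOpen_of_isGen (U := U ⊓ c.π.app i ⁻¹ᵁ W k) ((he k).pullSec _) (hbs k) inf_le_right ?_
      ⟨hx, hk⟩
    rw [res_res, res_res]
    have h1 := hs.res (inf_le_left : U ⊓ c.π.app i ⁻¹ᵁ W k ≤ U)
    rw [res_res] at h1
    exact h1
  have hxb' : c.π.app j x ∈ (D.obj j).basicOpen (b' k) := by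
    rw [← hbb' k] at hxb
    have h2 : c.pt.basicOpen ((c.π.app j).appLE (D.map a ⁻¹ᵁ W k) (c.π.app i ⁻¹ᵁ W k)
      (le_preimage D c a (W k)) (b' k)) ≤ c.π.app j ⁻¹ᵁ (D.obj j).basicOpen (b' k) := by
      rw [Scheme.preimage_basicOpen, appLE_eq_ores_app, basicOpen_res]
      exact inf_le_right
    exact h2 hxb
  have hEq : D.map a ⁻¹ᵁ O = φ.app j ⁻¹ᵁ (E.map a ⁻¹ᵁ V) := by
    rw [← Scheme.Hom.comp_preimage, ← Scheme.Hom.comp_preimage, φ.naturality]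
  refine mem_relLocus.2 ⟨(D.obj j).basicOpen (b' k), E.map a ⁻¹ᵁ V, ?_, res _ hEq.ge s', hxb', ?_⟩
  · rw [← hEq]
    exact ((D.obj j).basicOpen_le _).trans ((D.map a).preimage_mono (hWO k))
  · rw [res_res]
    have h3 := isGen_basicOpen ((he k).pullSec (D.map a)) (hs' k)
    rw [res_res] at h3
    exact h3

include hc hd hf in
theorem exists_mem_relLocus {i : I} {L : (D.obj i).Modules} (hL : PicF.IsInvertible L)
    {x : c.pt} (hx : x ∈ relLocus f ((Scheme.Modules.pullback (c.π.app i)).obj L)) :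
    ∃ (j : I) (a : j ⟶ i), c.π.app j x ∈ relLocus (φ.app j) ((Scheme.Modules.pullback (D.map a)).obj L) := by
  obtain ⟨U, V, hU, s, hxU, hs⟩ := mem_relLocus.1 hx
  obtain ⟨_, ⟨V', hV', rfl⟩, hxV', hVV'⟩ := d.pt.isBasis_affineOpens.exists_subset_of_mem_open
      (show f x ∈ (V : Set d.pt) from hU hxU) V.2
  obtain ⟨j, V'', hV'', h⟩ := exists_preimage_eq E d hd V' hV'.isCompact
  obtain ⟨k, ⟨a⟩, ⟨b⟩⟩ := (IsCofilteredOrEmpty.cone_objs i j).imp (fun k h => by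
    obtain ⟨a, b, -⟩ := h; exact (⟨⟨a⟩, ⟨b⟩⟩ : Nonempty (k ⟶ i) ∧ Nonempty (k ⟶ j)))
  -- move to stage `k`
  have hVk : d.π.app k ⁻¹ᵁ (E.map b ⁻¹ᵁ V'') = V' := by
    rw [← h, ← Scheme.Hom.comp_preimage, d.w]
  have hx' : x ∈ U ⊓ f ⁻¹ᵁ V' := ⟨hxU, hxV'⟩
  let L' := (Scheme.Modules.pullback (D.map a)).obj L
  let θ : (Scheme.Modules.pullback (c.π.app i)).obj L ≅ (Scheme.Modules.pullback (c.π.app k)).obj L' :=
    (Scheme.Modules.pullbackCongr (c.w a).symm).app L ≪≫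
      ((Scheme.Modules.pullbackComp (c.π.app k) (D.map a)).app L).symm
  have hle : f ⁻¹ᵁ (d.π.app k ⁻¹ᵁ (E.map b ⁻¹ᵁ V'')) ≤ f ⁻¹ᵁ V := by
    rw [hVk]
    exact f.preimage_mono hVV'
  have hle2 : U ⊓ f ⁻¹ᵁ V' ≤ f ⁻¹ᵁ (d.π.app k ⁻¹ᵁ (E.map b ⁻¹ᵁ V'')) := by
    rw [hVk]
    exact inf_le_right
  obtain ⟨l, m, hm⟩ := exists_mem_relLocus_aux hc φ f hf (i := k) (L := L') (isInvertible_pullback _ hL)
    (V := E.map b ⁻¹ᵁ V'') (QuasiCompact.isCompact_preimage _ V''.2 hV'')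
    (θ.hom.app _ (res _ hle s)) hle2 (by
      rw [← app_res, res_res]
      have h1 := (hs.res (inf_le_left : U ⊓ f ⁻¹ᵁ V' ≤ U)).app θ.hom
      rw [res_res] at h1
      exact h1) hx'
  refine ⟨l, m ≫ a, ?_⟩
  have h2 := relLocus_eq_of_iso (φ.app l) (((Scheme.Modules.pullbackComp (D.map m) (D.map a)).app L) ≪≫
    (Scheme.Modules.pullbackCongr (D.map_comp m a).symm).app L)
  rw [← h2]
  exact hm

include hc hd hf in
/-- **Descent of the relative generation of an invertible module.** -/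
theorem exists_relLocus_eq_top {i : I} {L : (D.obj i).Modules} (hL : PicF.IsInvertible L)
    (H : relLocus f ((Scheme.Modules.pullback (c.π.app i)).obj L) = ⊤) :
    ∃ (j : I) (a : j ⟶ i), relLocus (φ.app j) ((Scheme.Modules.pullback (D.map a)).obj L) = ⊤ := by
  choose j a ha using fun x : c.pt => exists_mem_relLocus hc hd φ f hf hL
    (x := x) (H ▸ trivial)
  have hcp : CompactSpace c.pt := Scheme.compactSpace_of_isLimit _ _ hc
  obtain ⟨t, ht⟩ := isCompact_univ.elim_finite_subcover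
    (fun x : c.pt ↦ ((c.π.app (j x) ⁻¹ᵁ relLocus (φ.app (j x))
      ((Scheme.Modules.pullback (D.map (a x))).obj L) : c.pt.Opens) : Set c.pt)) (fun x ↦ Opens.isOpen _)
    (fun x _ ↦ Set.mem_iUnion.2 ⟨x, ha x⟩)
  obtain ⟨k, hk⟩ := Groth.Agent.Flat2H.AmpleLimit.exists_over (fun x : t ↦ Over.mk (a x.1))
  have mono : ∀ {l m : I} (p : l ⟶ m) (q : m ⟶ i) (r : l ⟶ i), p ≫ q = r →
      D.map p ⁻¹ᵁ relLocus (φ.app m) ((Scheme.Modules.pullback (D.map q)).obj L) ≤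
        relLocus (φ.app l) ((Scheme.Modules.pullback (D.map r)).obj L) := by
    intro l m p q r h
    exact preimage_relLocus_comp_le (b := E.map p) (φ.naturality p) (by rw [← D.map_comp, h]) L
  have hU : c.π.app k.left ⁻¹ᵁ relLocus (φ.app k.left) ((Scheme.Modules.pullback (D.map k.hom)).obj L) = ⊤ := by
    rw [eq_top_iff]
    intro x _
    obtain ⟨y, hy, hxy⟩ := Set.mem_iUnion₂.1 (ht (Set.mem_univ x))
    have h1 := mono (hk ⟨y, hy⟩).some.left (a y) k.hom (Over.w (hk ⟨y, hy⟩).some)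
    refine (c.π.app k.left).preimage_mono h1 ?_
    rw [preimage_preimage D c]
    exact hxy
  obtain ⟨l, b, hb⟩ := exists_map_eq_top D c hc _ hU
  refine ⟨l, b ≫ k.hom, ?_⟩
  rw [eq_top_iff, ← hb]
  exact mono b k.hom _ rfl

end K342.RelGenLim
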