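/-
Spreading out a property of morphisms from the local scheme at a point of the base to a
neighbourhood of the point.
-/
import Groth.Agent.Smoothlim.LimDescend
import Mathlib.AlgebraicGeometry.Stalk

set_option autoImplicit false

universe u

open CategoryTheory Limits AlgebraicGeometry TopologicalSpace Opposite
open Groth.Agent.Smoothlim.LimBase

namespace K342.StalkNhd

variable (S : Scheme.{u}) (s : S)

/-- The spectra of the rings of sections over the neighbourhoods of a point. -/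
noncomputable def nD : OpenNhds s ⥤ Scheme.{u} :=
  ((OpenNhds.inclusion s).op ⋙ S.presheaf).rightOp ⋙ Scheme.Spec

/-- The cone with vertex the local scheme. -/
noncomputable def nC : Cone (nD S s) :=
  Scheme.Spec.mapCone (coneRightOpOfCocone (colimit.cocone ((OpenNhds.inclusion s).op ⋙ S.presheaf)))

/-- It is a limit cone. -/
noncomputable def isLimitNC : IsLimit (nC S s) :=
  isLimitOfPreserves Scheme.Spec (isLimitConeRightOpOfCocone _ (colimit.isColimit _))

theorem nD_map {U V : OpenNhds s} (i : U ⟶ V) :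
    (nD S s).map i = Spec.map (S.presheaf.map ((OpenNhds.inclusion s).map i).op) := rfl

theorem nC_app (U : OpenNhds s) :
    (nC S s).π.app U = Spec.map (S.presheaf.germ U.1 s U.2) := rfl

instance (U : OpenNhds s) : IsAffine ((nD S s).obj U) :=
  inferInstanceAs (IsAffine (Spec _))

variable {S}

/-- Base change of `f` over `S` along `V ⟶ S`, for an affine open `V`. -/
theorem restrict_of_snd {P : MorphismProperty Scheme.{u}} [P.IsStableUnderBaseChange]
    {X Y : Scheme.{u}} (f : X ⟶ Y) (g : Y ⟶ S) {W : S.Opens} (hW : IsAffineOpen W)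
    (h : P (pullback.snd f (pullback.fst g hW.fromSpec))) : P (f ∣_ (g ⁻¹ᵁ W)) := by
  have h1 : IsPullback ((g ⁻¹ᵁ W).ι) (g ∣_ W) g W.ι := (isPullback_morphismRestrict g W).flip
  have h2 : W.ι = (hW.isoSpec.hom ≫ hW.fromSpec) := by
    rw [IsAffineOpen.isoSpec_hom, IsAffineOpen.toSpecΓ_fromSpec]
  have w : (g ⁻¹ᵁ W).ι ≫ g = ((g ∣_ W) ≫ hW.isoSpec.hom) ≫ hW.fromSpec := by
    rw [h1.w, Category.assoc, ← h2]
  have h3 : (g ⁻¹ᵁ W).ι = pullback.lift _ _ w ≫ pullback.fst g hW.fromSpec := by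
    rw [pullback.lift_fst]
  have h4 : IsPullback ((f ⁻¹ᵁ g ⁻¹ᵁ W).ι) (f ∣_ (g ⁻¹ᵁ W)) f
      (pullback.lift _ _ w ≫ pullback.fst g hW.fromSpec) := by
    rw [← h3]
    exact (isPullback_morphismRestrict f (g ⁻¹ᵁ W)).flip
  exact of_snd P h4 (snd_comp P f _ _ h)

/-- **Spreading out from the local scheme at a point of the base.** -/
theorem exists_nhd {P Q : MorphismProperty Scheme.{u}} [P.IsStableUnderBaseChange]
    [IsZariskiLocalAtTarget P] [Q.IsStableUnderBaseChange] (hA : DescendsAffine Q P)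
    {X Y : Scheme.{u}} (f : X ⟶ Y) (g : Y ⟶ S) [QuasiCompact g] (hQ : Q f)
    (hP : P (pullback.snd f (pullback.fst g (S.fromSpecStalk s)))) :
    ∃ W : S.Opens, s ∈ W ∧ IsAffineOpen W ∧ P (f ∣_ (g ⁻¹ᵁ W)) := by
  obtain ⟨V, hV, hsV⟩ : ∃ V : S.Opens, IsAffineOpen V ∧ s ∈ V := by
    obtain ⟨_, ⟨V, hV, rfl⟩, hsV, -⟩ :=
      S.isBasis_affineOpens.exists_subset_of_mem_open (Set.mem_univ s) isOpen_univ
    exact ⟨V, hV, hsV⟩
  have hs : S.fromSpecStalk s = Spec.map (S.presheaf.germ V s hsV) ≫ hV.fromSpec := by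
    rw [← hV.fromSpecStalk_eq_fromSpecStalk hsV]; rfl
  -- the morphism over `Spec Γ(S, V)`
  let i₀ : OpenNhds s := ⟨V, hsV⟩
  let g₀ : pullback g hV.fromSpec ⟶ (nD S s).obj i₀ := pullback.snd g hV.fromSpec
  let f₀ := pullback.snd f (pullback.fst g hV.fromSpec)
  have hc : CompactSpace ↥(pullback g hV.fromSpec) :=
    QuasiCompact.compactSpace_of_compactSpace (pullback.snd g hV.fromSpec)
  have hQ₀ : Q f₀ := Q.pullback_snd _ _ hQ
  have hp : IsPullback (pullback.fst g₀ ((nC S s).π.app i₀) ≫ pullback.fst g hV.fromSpec)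
      (pullback.snd g₀ ((nC S s).π.app i₀)) g (S.fromSpecStalk s) := by
    have h1 := (IsPullback.of_hasPullback g₀ ((nC S s).π.app i₀)).paste_horiz
      (IsPullback.of_hasPullback g hV.fromSpec)
    rw [hs]
    exact h1
  have hP' : P (pullback.snd f₀ (pullback.fst g₀ ((nC S s).π.app i₀))) := by
    have h1 : IsPullback (pullback.fst f₀ (pullback.fst g₀ ((nC S s).π.app i₀)) ≫
        pullback.fst f (pullback.fst g hV.fromSpec)) (pullback.snd f₀ (pullback.fst g₀ ((nC S s).π.app i₀)))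
        f (pullback.fst g₀ ((nC S s).π.app i₀) ≫ pullback.fst g hV.fromSpec) :=
      (IsPullback.of_hasPullback f₀ _).paste_horiz (IsPullback.of_hasPullback f _)
    refine of_snd P h1 ?_
    have h2 : pullback.fst g₀ ((nC S s).π.app i₀) ≫ pullback.fst g hV.fromSpec =
        hp.isoPullback.hom ≫ pullback.fst g (S.fromSpecStalk s) :=
      hp.isoPullback_hom_fst.symm
    rw [h2]
    exact snd_comp P f _ _ hP
  obtain ⟨i, φ, hi⟩ := exists_descend hA (nD S s) (nC S s) (isLimitNC S s) i₀ f₀ g₀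
    (pullback.snd f₀ (pullback.fst g₀ ((nC S s).π.app i₀))) (pullback.snd g₀ ((nC S s).π.app i₀))
    (pullback.fst _ _) (pullback.fst _ _) (IsPullback.of_hasPullback _ _)
    (IsPullback.of_hasPullback _ _) hQ₀ hP'
  obtain ⟨_, ⟨W, hW, rfl⟩, hsW, hWi⟩ :=
    S.isBasis_affineOpens.exists_subset_of_mem_open i.2 i.1.2
  refine ⟨W, hsW, hW, restrict_of_snd f g hW ?_⟩
  have hWi' : W ≤ i.1 := hWi
  have hiV : i.1 ≤ V := φ.le
  -- the base change over `W`
  change IsAffineOpen W at hW
  have e0 : Spec.map (S.presheaf.map (homOfLE hWi').op) ≫ (nD S s).map φ =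
      Spec.map (S.presheaf.map (homOfLE (hWi'.trans hiV)).op) := by
    rw [nD_map]
    exact (Spec.map_comp _ _).symm.trans (congrArg Spec.map (S.presheaf.map_comp _ _).symm)
  have e1 : hW.fromSpec = Spec.map (S.presheaf.map (homOfLE hWi').op) ≫ (nD S s).map φ ≫ hV.fromSpec := by
    rw [reassoc_of% e0]
    exact (hV.map_fromSpec hW (homOfLE (hWi'.trans hiV)).op).symm
  have e2 : pullback.fst g hW.fromSpec ≫ g = (pullback.snd g hW.fromSpec ≫
      Spec.map (S.presheaf.map (homOfLE hWi').op) ≫ (nD S s).map φ) ≫ hV.fromSpec := by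
    rw [pullback.condition, Category.assoc, Category.assoc, ← e1]
  let a : pullback g hW.fromSpec ⟶ pullback g hV.fromSpec := pullback.lift _ _ e2
  have e3 : a ≫ g₀ = (pullback.snd g hW.fromSpec ≫
      Spec.map (S.presheaf.map (homOfLE hWi').op)) ≫ (nD S s).map φ := by
    rw [Category.assoc]
    exact pullback.lift_snd _ _ _
  let b : pullback g hW.fromSpec ⟶ pullback g₀ ((nD S s).map φ) := pullback.lift _ _ e3
  have e4 : pullback.fst g hW.fromSpec = a ≫ pullback.fst g hV.fromSpec := by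
    rw [pullback.lift_fst]
  rw [e4]
  have h1 : IsPullback (pullback.fst f₀ a ≫ pullback.fst f (pullback.fst g hV.fromSpec))
      (pullback.snd f₀ a) f (a ≫ pullback.fst g hV.fromSpec) :=
    (IsPullback.of_hasPullback f₀ a).paste_horiz (IsPullback.of_hasPullback f _)
  refine snd_of_isPullback P h1 ?_
  have e5 : a = b ≫ pullback.fst g₀ ((nD S s).map φ) := by
    rw [pullback.lift_fst]
  rw [e5]
  exact snd_comp P f₀ _ _ hi

end K342.StalkNhd
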