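/-
Closed subgroup schemes (and their normality) over a cofiltered limit come from a stage.
-/
import Groth.Agent.Sga3C.ClosedSub
import Groth.Agent.Smoothlim.LimDescend
import Groth.Prelude.Def_Red

set_option autoImplicit false

universe u

open CategoryTheory Limits MonoidalCategory CartesianMonoidalCategory MonObj GrpObj AlgebraicGeometry

namespace K342.SubGrpLim

section Points

variable {S S' S'' : Scheme.{u}}

/-- Points of the base change. -/
noncomputable def up (f : S' ⟶ S) {X : Over S} {T : Over S'} (g : (Over.map f).obj T ⟶ X) :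
    T ⟶ Red.bc f X :=
  (Over.mapPullbackAdj f).homEquiv T X g

/-- Points of the base change. -/
noncomputable def dn (f : S' ⟶ S) {X : Over S} {T : Over S'} (g : T ⟶ Red.bc f X) :
    (Over.map f).obj T ⟶ X :=
  ((Over.mapPullbackAdj f).homEquiv T X).symm g

variable (f : S' ⟶ S)

theorem up_dn {X : Over S} {T : Over S'} (g : T ⟶ Red.bc f X) : up f (dn f g) = g :=
  Equiv.apply_symm_apply _ _

theorem dn_up {X : Over S} {T : Over S'} (g : (Over.map f).obj T ⟶ X) : dn f (up f g) = g :=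
  Equiv.symm_apply_apply _ _

theorem up_comp {X Y : Over S} {T : Over S'} (g : (Over.map f).obj T ⟶ X) (φ : X ⟶ Y) :
    up f (g ≫ φ) = up f g ≫ (Over.pullback f).map φ :=
  (Over.mapPullbackAdj f).homEquiv_naturality_right g φ

theorem dn_comp {X Y : Over S} {T : Over S'} (g : T ⟶ Red.bc f X) (φ : X ⟶ Y) :
    dn f (g ≫ (Over.pullback f).map φ) = dn f g ≫ φ := by
  apply (Equiv.injective ((Over.mapPullbackAdj f).homEquiv T Y))
  change up f _ = up f _
  rw [up_dn, up_comp, up_dn]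

theorem up_mul {G : Over S} [GrpObj G] {T : Over S'} (a b : (Over.map f).obj T ⟶ G) :
    up f (a * b) = up f a * up f b := by
  simp only [up]
  rw [(Over.mapPullbackAdj f).homEquiv_unit, (Over.mapPullbackAdj f).homEquiv_unit,
    (Over.mapPullbackAdj f).homEquiv_unit, CategoryTheory.Functor.map_mul, MonObj.comp_mul]

theorem up_one {G : Over S} [GrpObj G] {T : Over S'} :
    up f (1 : (Over.map f).obj T ⟶ G) = 1 := by
  have h := up_mul f (G := G) (T := T) 1 1
  rw [_root_.mul_one] at h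
  exact left_eq_mul.mp h

theorem up_inv {G : Over S} [GrpObj G] {T : Over S'} (a : (Over.map f).obj T ⟶ G) :
    up f a⁻¹ = (up f a)⁻¹ := by
  rw [eq_inv_iff_mul_eq_one, ← up_mul, inv_mul_cancel, up_one]

/-- After base change along `f`, the morphism `u` factors through `i`. -/
def Fac {H G T₀ : Over S} (i : H ⟶ G) (u : T₀ ⟶ G) : Prop :=
  ∀ (T : Over S') (t : (Over.map f).obj T ⟶ T₀), ∃ b : (Over.map f).obj T ⟶ H, b ≫ i = t ≫ u

theorem Fac.comp {f : S' ⟶ S} {H G T₀ : Over S} {i : H ⟶ G} {u : T₀ ⟶ G} (h : Fac f i u)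
    (f' : S'' ⟶ S') : Fac (f' ≫ f) i u := by
  intro T t
  obtain ⟨b, hb⟩ := h ((Over.map f').obj T) ((Over.mapComp f' f).inv.app T ≫ t)
  refine ⟨(Over.mapComp f' f).hom.app T ≫ b, ?_⟩
  rw [Category.assoc, hb, ← Category.assoc, ← Category.assoc, Iso.hom_inv_id_app]
  simp

theorem fac_of_left {f : S' ⟶ S} {H G T₀ : Over S} {i : H ⟶ G} {u : T₀ ⟶ G}
    (g : pullback T₀.hom f ⟶ H.left) (hg : g ≫ i.left = pullback.fst T₀.hom f ≫ u.left) :
    Fac f i u := by
  intro T t
  have ht : t.left ≫ T₀.hom = T.hom ≫ f := Over.w t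
  have h1 : (pullback.lift t.left T.hom ht ≫ g) ≫ i.left = t.left ≫ u.left := by
    rw [Category.assoc, hg, pullback.lift_fst_assoc]
  refine ⟨Over.homMk (pullback.lift t.left T.hom ht ≫ g) ?_, ?_⟩
  · rw [← Over.w i, ← Category.assoc, h1, Category.assoc, Over.w u]
    exact ht
  · ext
    exact h1

theorem exists_left_of_fac {f : S' ⟶ S} {H G T₀ : Over S} {i : H ⟶ G} {u : T₀ ⟶ G}
    (h : Fac f i u) : ∃ g : pullback T₀.hom f ⟶ H.left,
      g ≫ i.left = pullback.fst T₀.hom f ≫ u.left := by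
  obtain ⟨b, hb⟩ := h (Over.mk (pullback.snd T₀.hom f))
    (Over.homMk (pullback.fst T₀.hom f) (by simp [pullback.condition]))
  exact ⟨b.left, congrArg (fun φ => φ.left) hb⟩

/-- The four universal points. -/
noncomputable abbrev uMul {H G : Over S} [GrpObj G] (i : H ⟶ G) : H ⊗ H ⟶ G :=
  (fst H H ≫ i) * (snd H H ≫ i)

noncomputable abbrev uOne (G : Over S) [GrpObj G] : 𝟙_ (Over S) ⟶ G := 1

noncomputable abbrev uInv {H G : Over S} [GrpObj G] (i : H ⟶ G) : H ⟶ G := i⁻¹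

noncomputable abbrev uConj {H G : Over S} [GrpObj G] (i : H ⟶ G) : G ⊗ H ⟶ G :=
  fst G H * (snd G H ≫ i) * (fst G H)⁻¹

variable {f}

theorem exists_grpObj {H G : Over S} [GrpObj G] (i : H ⟶ G) [Mono i] (h1 : Fac f i (uMul i))
    (h2 : Fac f i (uOne G)) (h3 : Fac f i (uInv i)) :
    ∃ _ : GrpObj (Red.bc f H), IsMonHom ((Over.pullback f).map i) := by
  have : Mono ((Over.pullback f).map i) := inferInstance
  refine Groth.Agent.Sga3C.ClosedSub.exists_grpObj_of_mono ((Over.pullback f).map i) ?_ ?_ ?_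
  · obtain ⟨b, hb⟩ := h2 (𝟙_ (Over S')) (toUnit _)
    refine ⟨up f b, ?_⟩
    rw [← up_comp, hb, MonObj.comp_one, up_one]
    exact (MonObj.one_eq_one (M := Red.bc f G)).symm
  · obtain ⟨b, hb⟩ := h1 (Red.bc f H ⊗ Red.bc f H)
      (lift (dn f (fst _ _)) (dn f (snd _ _)))
    refine ⟨up f b, ?_⟩
    rw [← up_comp, hb, MonObj.comp_mul, lift_fst_assoc, lift_snd_assoc, up_mul, up_comp, up_comp,
      up_dn, up_dn]
    have : ∀ {Z G : Over S'} [GrpObj G] (z : Z ⟶ G),
        (z ⊗ₘ z) ≫ μ[G] = (fst Z Z ≫ z) * (snd Z Z ≫ z) := by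
      intro Z G _ z
      rw [Hom.mul_def]
      congr 1
    rw [this]
  · obtain ⟨b, hb⟩ := h3 (Red.bc f H) (dn f (𝟙 _))
    refine ⟨up f b, ?_⟩
    rw [← up_comp, hb, GrpObj.comp_inv, up_inv, up_comp, up_dn, Category.id_comp]
    rfl

theorem fac_of_isMonHom {H G : Over S} [GrpObj G] (i : H ⟶ G)
    [GrpObj (Red.bc f H)] [IsMonHom ((Over.pullback f).map i)] :
    Fac f i (uMul i) ∧ Fac f i (uOne G) ∧ Fac f i (uInv i) := by
  refine ⟨?_, ?_, ?_⟩
  · intro T t
    refine ⟨dn f (up f (t ≫ fst H H) * up f (t ≫ snd H H)), ?_⟩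
    rw [← dn_comp, MonObj.mul_comp, ← up_comp, ← up_comp, ← up_mul, dn_up, MonObj.comp_mul,
      Category.assoc, Category.assoc]
  · intro T t
    refine ⟨dn f (1 : T ⟶ Red.bc f H), ?_⟩
    rw [← dn_comp, MonObj.one_comp, ← up_one, dn_up, MonObj.comp_one]
  · intro T t
    refine ⟨dn f (up f t)⁻¹, ?_⟩
    rw [← dn_comp, GrpObj.inv_comp, ← up_comp, ← up_inv, dn_up, GrpObj.comp_inv]

theorem fac_of_isNormalHom {H G : Over S} [GrpObj G] (i : H ⟶ G)
    [GrpObj (Red.bc f H)] (h : AlgGrp.IsNormalHom ((Over.pullback f).map i)) :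
    Fac f i (uConj i) := by
  intro T t
  obtain ⟨n', hn'⟩ := h T (up f (t ≫ fst G H)) (up f (t ≫ snd G H))
  refine ⟨dn f n', ?_⟩
  rw [← dn_comp, ← hn', ← up_comp, ← up_mul, ← up_inv, ← up_mul, dn_up, MonObj.comp_mul,
    MonObj.comp_mul, GrpObj.comp_inv, Category.assoc]

theorem isNormalHom_of_fac {H G : Over S} [GrpObj G] (i : H ⟶ G)
    [GrpObj (Red.bc f H)] (h : Fac f i (uConj i)) :
    AlgGrp.IsNormalHom ((Over.pullback f).map i) := by
  intro T g n
  obtain ⟨b, hb⟩ := h T (lift (dn f g) (dn f n))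
  refine ⟨up f b, ?_⟩
  rw [← up_comp, hb, MonObj.comp_mul, MonObj.comp_mul, GrpObj.comp_inv, lift_fst, lift_snd_assoc,
    up_mul, up_mul, up_inv, up_comp, up_dn, up_dn]

end Points

section Limit

open Groth.Agent.Smoothlim.LimBase

variable {I : Type u} [SmallCategory I] [IsCofiltered I]
    (D : I ⥤ Scheme.{u}) (c : Limits.Cone D) (hc : Limits.IsLimit c)
    [∀ (i j : I) (a : i ⟶ j), IsAffineHom (D.map a)] (i₀ : I)

set_option backward.isDefEq.respectTransparency false in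
include hc in
/-- Descent of the factorization property. -/
theorem exists_fac {H G T₀ : Over (D.obj i₀)} (i : H ⟶ G) [LocallyOfFinitePresentation i.left]
    (u : T₀ ⟶ G) [CompactSpace T₀.left] [QuasiSeparatedSpace T₀.left]
    (h : Fac (c.π.app i₀) i u) : ∃ φ : Over i₀, Fac (D.map φ.hom) i u := by
  have : ∀ {i j : I} (φ : i ⟶ j), IsAffineHom (D.map φ) := fun {i j} φ ↦ inferInstance
  obtain ⟨g, hg⟩ := exists_left_of_fac h
  let E : Over i₀ ⥤ Scheme.{u} := pbDiag D i₀ T₀.hom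
  have hX : IsPullback (pullback.fst T₀.hom (c.π.app i₀)) (pullback.snd T₀.hom (c.π.app i₀)) T₀.hom
    (c.π.app i₀) := IsPullback.of_hasPullback _ _
  let cE : Cone E := pbCone i₀ T₀.hom c _ _ hX.toCommSq
  have hcE : IsLimit cE := isLimitPbCone i₀ T₀.hom c hc _ _ hX
  have hE' : ∀ {φ ψ : Over i₀} (h : φ ⟶ ψ), IsAffineHom (E.map h) :=
    fun h ↦ isAffineHom_pbDiag_map D i₀ T₀.hom h
  have hfst (φ : Over i₀) : IsAffineHom (pullback.fst T₀.hom (D.map φ.hom)) :=
    MorphismProperty.pullback_fst _ _ inferInstance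
  have hc1 (φ : Over i₀) : CompactSpace (E.obj φ) :=
    QuasiCompact.compactSpace_of_compactSpace (pullback.fst T₀.hom (D.map φ.hom))
  have hc2 (φ : Over i₀) : QuasiSeparatedSpace (E.obj φ) :=
    quasiSeparatedSpace_of_quasiSeparated (pullback.fst T₀.hom (D.map φ.hom))
  let t : E ⟶ (Functor.const (Over i₀)).obj G.left :=
    { app φ := pullback.fst T₀.hom (D.map φ.hom) ≫ u.left
      naturality φ ψ h := by simp [E] }
  have hcp (φ : Over i₀) : cE.π.app φ ≫ pullback.fst T₀.hom (D.map φ.hom) =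
      pullback.fst T₀.hom (c.π.app i₀) := by
    simp [cE]
  obtain ⟨k, g', hg', hg''⟩ := Scheme.exists_π_app_comp_eq_of_locallyOfFinitePresentation E t i.left
    cE hcE g (by
      ext φ : 2
      simp only [NatTrans.comp_app, Functor.const_map_app, t]
      rw [reassoc_of% (hcp φ), hg])
  exact ⟨k, fac_of_left g' hg''⟩

theorem exists_over {κ : Type*} [Finite κ]
    (j : κ → Over i₀) : ∃ k : Over i₀, ∀ a, Nonempty (k ⟶ j a) := by
  classical
  have := Fintype.ofFinite κ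
  obtain ⟨k, hk⟩ := IsCofiltered.inf_objs_exists (Finset.univ.image j)
  exact ⟨k, fun a ↦ hk (Finset.mem_image_of_mem j (Finset.mem_univ a))⟩

theorem fac_of_hom {D : I ⥤ Scheme.{u}} {i₀ : I} {H G T₀ : Over (D.obj i₀)} {i : H ⟶ G} {u : T₀ ⟶ G}
    {φ ψ : Over i₀} (a : ψ ⟶ φ) (h : Fac (D.map φ.hom) i u) : Fac (D.map ψ.hom) i u := by
  have h1 : D.map ψ.hom = D.map a.left ≫ D.map φ.hom := by rw [← D.map_comp, Over.w]
  rw [h1]
  exact h.comp _

end Limit

end K342.SubGrpLim
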